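import Mathlib.LinearAlgebra.Matrix.Charpoly.Coeff
import Mathlib.LinearAlgebra.Matrix.Adjugate
import Mathlib.LinearAlgebra.Matrix.ToLinearEquiv
import Mathlib.RingTheory.Polynomial.Cyclotomic.Roots
import Mathlib.RingTheory.Polynomial.Cyclotomic.Expand

/-!
Integer matrices of finite order having an eigenvalue of order d modulo a large prime, where φ(d) is
the size of the matrix: they are annihilated by the d-th cyclotomic polynomial.
-/

set_option autoImplicit false

namespace Cfsg.Agent.Lib.ChevStructure.RegTorus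

open Polynomial Matrix

variable {n : Type*} [Fintype n] [DecidableEq n]

/-- vectors of an annihilated cyclic sequence are independent -/
theorem indep {A : Matrix n n ℚ} {p : ℚ[X]} (hp : Irreducible p) {y : n → ℚ} (hy : y ≠ 0)
    (h : aeval A p *ᵥ y = 0) :
    LinearIndependent ℚ fun i : Fin p.natDegree => (A ^ (i : ℕ)) *ᵥ y := by
  rw [Fintype.linearIndependent_iff]
  intro a ha i
  set g : ℚ[X] := ∑ j : Fin p.natDegree, C (a j) * X ^ (j : ℕ) with hg
  have hgy : aeval A g *ᵥ y = 0 := by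
    rw [hg, map_sum, Matrix.sum_mulVec, ← ha]
    refine Finset.sum_congr rfl fun j _ => ?_
    rw [map_mul, map_pow, aeval_C, aeval_X, ← Algebra.smul_def, Matrix.smul_mulVec]
  by_contra hai
  have hgne : g ≠ 0 := fun h0 => hai (by
    have := congrArg (fun f => f.coeff (i : ℕ)) h0
    simpa [hg, Fin.val_inj] using this)
  have hdeg : g.natDegree < p.natDegree := by
    refine (natDegree_sum_le_of_forall_le (n := p.natDegree - 1) _ _ fun j _ => ?_).trans_lt ?_
    · refine (natDegree_C_mul_X_pow_le _ _).trans ?_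
      have := j.isLt
      omega
    · have := i.isLt; omega
  have hnd : ¬ p ∣ g := fun hd => absurd (natDegree_le_of_dvd hd hgne) (by omega)
  obtain ⟨u, w, huw⟩ := hp.coprime_iff_not_dvd.2 hnd
  refine hy ?_
  have e := congrArg (fun f => aeval A f *ᵥ y) huw
  simp only [map_add, map_mul, map_one, Matrix.add_mulVec, Matrix.one_mulVec, ← Matrix.mulVec_mulVec, h, hgy,
    Matrix.mulVec_zero, add_zero] at e
  exact e.symm

theorem deg_le_card {A : Matrix n n ℚ} {p : ℚ[X]} (hp : Irreducible p) {y : n → ℚ} (hy : y ≠ 0)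
    (h : aeval A p *ᵥ y = 0) : p.natDegree ≤ Fintype.card n := by
  have h1 := (indep hp hy h).fintype_card_le_finrank
  rwa [Fintype.card_fin, Module.finrank_fintype_fun_eq_card] at h1

theorem aeval_eq_zero_of_mulVec {A : Matrix n n ℚ} {p : ℚ[X]} (hp : Irreducible p) {y : n → ℚ} (hy : y ≠ 0)
    (h : aeval A p *ᵥ y = 0) (hn : p.natDegree = Fintype.card n) : aeval A p = 0 := by
  have hs := (indep hp hy h).span_eq_top_of_card_eq_finrank' (by
    rw [Fintype.card_fin, Module.finrank_fintype_fun_eq_card, hn])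
  have hz : ∀ w : n → ℚ, aeval A p *ᵥ w = 0 := by
    intro w
    have hw : w ∈ Submodule.span ℚ (Set.range fun i : Fin p.natDegree => (A ^ (i : ℕ)) *ᵥ y) :=
      hs ▸ Submodule.mem_top
    induction hw using Submodule.span_induction with
    | mem v hv =>
      obtain ⟨i, rfl⟩ := hv
      have hc : Commute (aeval A p) (A ^ (i : ℕ)) := by
        have := (Commute.all p (X ^ (i : ℕ))).map (aeval A)
        rwa [map_pow, aeval_X] at this
      rw [Matrix.mulVec_mulVec, hc.eq, ← Matrix.mulVec_mulVec, h, Matrix.mulVec_zero]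
    | zero => exact Matrix.mulVec_zero _
    | add v w _ _ hv hw => rw [Matrix.mulVec_add, hv, hw, add_zero]
    | smul c v _ hv => rw [Matrix.mulVec_smul, hv, smul_zero]
  exact Matrix.toLin'.injective (LinearMap.ext fun w => by simpa using hz w)

theorem exists_col {R : Matrix n n ℚ} (h : R ≠ 0) : ∃ v, R *ᵥ v ≠ 0 := by
  by_contra hne
  push Not at hne
  exact h (Matrix.toLin'.injective (LinearMap.ext fun w => by simpa using hne w))

/-- the matrix over ℚ -/
abbrev toQ (M : Matrix n n ℤ) : Matrix n n ℚ := (Int.castRingHom ℚ).mapMatrix M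

theorem aeval_toQ (M : Matrix n n ℤ) (p : ℤ[X]) : aeval (toQ M) (p.map (Int.castRingHom ℚ)) = toQ (aeval M p) := by
  induction p using Polynomial.induction_on' with
  | add a b ha hb => simp only [Polynomial.map_add, map_add, ha, hb]
  | monomial k a =>
    simp only [Polynomial.map_monomial, aeval_monomial, map_mul, map_pow]
    congr 1
    simp [Algebra.algebraMap_eq_smul_one, toQ, map_intCast]

theorem toQ_one : toQ (1 : Matrix n n ℤ) = 1 := map_one _

theorem toQ_zero : toQ (0 : Matrix n n ℤ) = 0 := map_zero _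

theorem toQ_injective : Function.Injective (toQ (n := n)) := fun _ _ h =>
  Matrix.map_injective Int.cast_injective h

/-- A prime order element needs a big matrix. -/
theorem eq_one_of_pow_prime {M : Matrix n n ℤ} {r : ℕ} (hr : r.Prime) (hn : Fintype.card n + 1 < r)
    (h : M ^ r = 1) : M = 1 := by
  by_contra hne
  haveI : Fact r.Prime := ⟨hr⟩
  have hp := cyclotomic.irreducible_rat hr.pos
  have hR : toQ M - 1 ≠ 0 := fun h0 => hne (toQ_injective (by rw [toQ_one]; exact sub_eq_zero.1 h0))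
  obtain ⟨v, hv⟩ := exists_col hR
  have hkill : aeval (toQ M) (cyclotomic r ℚ) * (toQ M - 1) = 0 := by
    have e := congrArg (aeval (toQ M)) (cyclotomic_prime_mul_X_sub_one ℚ r)
    rwa [map_mul, map_sub, map_sub, map_pow, aeval_X, map_one, ← map_pow, h, map_one, sub_self] at e
  have := deg_le_card hp hv (by rw [Matrix.mulVec_mulVec, hkill, Matrix.zero_mulVec])
  rw [natDegree_cyclotomic, Nat.totient_prime hr] at this
  omega

/-- The value of a functional after a polynomial in the matrix. -/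
theorem vecMul_aeval {R : Type*} [CommRing R] {M : Matrix n n ℤ} {E : n → R} {q : R}
    (h : E ᵥ* M.map (Int.cast : ℤ → R) = q • E) (p : ℤ[X]) :
    E ᵥ* (aeval M p).map (Int.cast : ℤ → R) = (aeval q p) • E := by
  have hm : ∀ A : Matrix n n ℤ, A.map (Int.cast : ℤ → R) = (Int.castRingHom R).mapMatrix A := fun _ => rfl
  induction p using Polynomial.induction_on with
  | C a =>
    rw [aeval_C, aeval_C, hm]
    simp [map_intCast, Matrix.vecMul_intCast]
    ext i
    simp [mul_comm]
  | add a b ha hb => rw [map_add, map_add, hm, map_add, ← hm, ← hm, Matrix.vecMul_add, ha, hb, add_smul]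
  | monomial k a ih =>
    rw [pow_succ, ← mul_assoc, map_mul (aeval M) _ X, map_mul (aeval q) _ X, aeval_X, aeval_X, hm, map_mul, ← hm, ← hm, ← Matrix.vecMul_vecMul,
      ih, Matrix.smul_vecMul, h, smul_smul]

/-- Annihilation by the cyclotomic polynomial. -/
theorem aeval_cyclotomic_eq_zero {M : Matrix n n ℤ} {r e d : ℕ} [Fact r.Prime] (hn : Fintype.card n + 1 < r)
    (he : 0 < e) (hM : M ^ e = 1) {E : n → ZMod r} (hE : E ≠ 0) {q : ZMod r}
    (hd : orderOf q = d) (hφ : d.totient = Fintype.card n)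
    (hEM : E ᵥ* M.map (Int.cast : ℤ → ZMod r) = q • E) : aeval M (cyclotomic d ℤ) = 0 := by
  have hr : r.Prime := Fact.out
  obtain ⟨e, he, hM, hre⟩ : ∃ e', 0 < e' ∧ M ^ e' = 1 ∧ ¬ r ∣ e' := by
    clear hd hEM
    induction e using Nat.strong_induction_on with
    | _ e ih =>
      by_cases hdv : r ∣ e
      · obtain ⟨k, rfl⟩ := hdv
        refine ih k ?_ (Nat.pos_of_mul_pos_left he) ?_
        · exact lt_mul_left (Nat.pos_of_mul_pos_left he) hr.one_lt
        · refine eq_one_of_pow_prime hr hn ?_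
          rw [← pow_mul, mul_comm, hM]
      · exact ⟨e, he, hM, hdv⟩
  obtain ⟨i, hi⟩ : ∃ i, E i ≠ 0 := Function.ne_iff.1 hE
  have hqe : q ^ e = 1 := by
    have h1 := vecMul_aeval hEM (X ^ e)
    rw [map_pow, aeval_X, map_pow, aeval_X, hM, Matrix.map_one _ Int.cast_zero Int.cast_one, Matrix.vecMul_one] at h1
    have h2 := congrFun h1 i
    simp only [Pi.smul_apply, smul_eq_mul] at h2
    exact (mul_eq_right₀ hi).1 h2.symm
  have hde : d ∣ e := hd ▸ orderOf_dvd_of_pow_eq_one hqe
  have hd0 : 0 < d := Nat.pos_of_dvd_of_pos hde he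
  have hdr : ¬ r ∣ d := fun h => hre (h.trans hde)
  haveI : NeZero ((d : ℕ) : ZMod r) := ⟨fun h => hdr ((ZMod.natCast_eq_zero_iff d r).1 h)⟩
  obtain ⟨R, hR⟩ : cyclotomic d ℤ ∣ X ^ e - 1 := by
    rw [← prod_cyclotomic_eq_X_pow_sub_one he]
    exact Finset.dvd_prod_of_mem _ (Nat.mem_divisors.2 ⟨hde, he.ne'⟩)
  have hroot : aeval q (cyclotomic d ℤ) = 0 := by
    have h1 : IsRoot (cyclotomic d (ZMod r)) q :=
      isRoot_cyclotomic_iff.2 (IsPrimitiveRoot.iff_orderOf.2 hd)
    rw [aeval_def, algebraMap_int_eq, ← eval_map, map_cyclotomic]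
    exact h1
  have hR0 : aeval q R ≠ 0 := by
    intro h0
    have e1 := congrArg (fun f => aeval q (derivative f)) hR
    simp only [derivative_mul, derivative_sub, derivative_X_pow, derivative_one, sub_zero, map_add, map_mul,
      hroot, h0, mul_zero, zero_mul, add_zero, map_pow, aeval_X, aeval_C, map_natCast] at e1
    rcases mul_eq_zero.1 e1 with h | h
    · exact hre ((ZMod.natCast_eq_zero_iff e r).1 h)
    · have hq0 := eq_zero_of_pow_eq_zero h
      rw [hq0, zero_pow he.ne'] at hqe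
      exact zero_ne_one hqe
  have hRM : aeval M R ≠ 0 := by
    intro h0
    have h1 := congrFun (vecMul_aeval hEM R) i
    rw [h0, Matrix.map_zero _ Int.cast_zero, Matrix.vecMul_zero, Pi.smul_apply, smul_eq_mul, Pi.zero_apply] at h1
    exact mul_ne_zero hR0 hi h1.symm
  obtain ⟨v, hv⟩ := exists_col (R := toQ (aeval M R)) fun h => hRM (toQ_injective (by rw [h, toQ_zero]))
  refine toQ_injective ?_
  rw [toQ_zero, ← aeval_toQ, map_cyclotomic]
  refine aeval_eq_zero_of_mulVec (cyclotomic.irreducible_rat hd0) hv ?_ (by rw [natDegree_cyclotomic, hφ])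
  rw [Matrix.mulVec_mulVec, ← map_cyclotomic d (Int.castRingHom ℚ), aeval_toQ, ← map_mul, ← map_mul, ← hR, map_sub,
    map_pow, aeval_X, map_one, hM, sub_self, map_zero, Matrix.zero_mulVec]

/-- The cyclic basis of a vector has nonzero determinant. -/
theorem det_cyclic_ne_zero {l d : ℕ} {M : Matrix (Fin l) (Fin l) ℤ} (hd : 0 < d) (hφ : d.totient = l)
    (hM : aeval M (cyclotomic d ℤ) = 0) {y : Fin l → ℤ} (hy : y ≠ 0) :
    (Matrix.of fun k (i : Fin l) => ((M ^ (i : ℕ)) *ᵥ y) k).det ≠ 0 := by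
  have hy' : (fun k => (y k : ℚ)) ≠ 0 := fun h => hy (funext fun k => Int.cast_injective (α := ℚ)
    ((congrFun h k).trans Int.cast_zero.symm))
  have h0 : aeval (toQ M) (cyclotomic d ℚ) *ᵥ (fun k => (y k : ℚ)) = 0 := by
    rw [← map_cyclotomic d (Int.castRingHom ℚ), aeval_toQ, hM, toQ_zero, Matrix.zero_mulVec]
  have hind := indep (cyclotomic.irreducible_rat hd) hy' h0
  rw [natDegree_cyclotomic, hφ] at hind
  intro h
  have h2 : ((Matrix.of fun k (i : Fin l) => ((M ^ (i : ℕ)) *ᵥ y) k).map (Int.castRingHom ℚ)).det = 0 := by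
    rw [← RingHom.mapMatrix_apply, ← RingHom.map_det, h, map_zero]
  refine (Matrix.linearIndependent_cols_iff_isUnit.1 ?_).map Matrix.detMonoidHom |>.ne_zero h2
  have e : ((Matrix.of fun k (i : Fin l) => ((M ^ (i : ℕ)) *ᵥ y) k).map (Int.castRingHom ℚ)).col =
      fun i : Fin l => (toQ M ^ (i : ℕ)) *ᵥ fun k => (y k : ℚ) := by
    funext i k
    simp only [Matrix.col_apply, Matrix.map_apply, Matrix.of_apply]
    rw [RingHom.map_mulVec, ← map_pow]
    rfl
  rw [e]
  exact hind

/-- The matrix of the cyclic basis of a vector. -/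
def cyc {l : ℕ} (M : Matrix (Fin l) (Fin l) ℤ) (y : Fin l → ℤ) : Matrix (Fin l) (Fin l) ℤ :=
  Matrix.of fun k (i : Fin l) => ((M ^ (i : ℕ)) *ᵥ y) k

section Eigen

variable {R : Type*} [CommRing R] {l : ℕ} {M : Matrix (Fin l) (Fin l) ℤ} {y : Fin l → ℤ} {q : ℤ}

theorem vecMul_cyc_eigen {F : Fin l → R} (h : F ᵥ* M.map (Int.cast : ℤ → R) = (q : R) • F) (i : Fin l) :
    (F ᵥ* (cyc M y).map (Int.cast : ℤ → R)) i = (q : R) ^ (i : ℕ) * (F ⬝ᵥ fun k => (y k : R)) := by
  show (F ⬝ᵥ fun k => (((M ^ (i : ℕ)) *ᵥ y) k : R)) = _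
  have e : (fun k => (((M ^ (i : ℕ)) *ᵥ y) k : R)) = ((M ^ (i : ℕ)).map (Int.cast : ℤ → R)) *ᵥ fun k => (y k : R) :=
    funext fun k => (Int.castRingHom R).map_mulVec _ _ k
  rw [e, Matrix.dotProduct_mulVec, ← aeval_X (R := ℤ) M, ← map_pow, vecMul_aeval h, map_pow, aeval_X,
    smul_dotProduct, smul_eq_mul]

theorem det_smul_eq_zero {F : Fin l → R} {A : Matrix (Fin l) (Fin l) ℤ}
    (h : F ᵥ* A.map (Int.cast : ℤ → R) = 0) : (A.det : R) • F = 0 := by
  have e := Matrix.vecMul_vecMul F (A.map (Int.cast : ℤ → R)) (A.adjugate.map (Int.cast : ℤ → R))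
  rw [h, Matrix.zero_vecMul, show A.map (Int.cast : ℤ → R) = (Int.castRingHom R).mapMatrix A from rfl,
    show A.adjugate.map (Int.cast : ℤ → R) = (Int.castRingHom R).mapMatrix A.adjugate from rfl, ← map_mul,
    Matrix.mul_adjugate, map_zsmul, map_one, Matrix.vecMul_smul, Matrix.vecMul_one] at e
  rw [Int.cast_smul_eq_zsmul]
  exact e.symm

theorem eigen_eq_zero {F : Fin l → R} {d : ℕ} (hM : aeval M (cyclotomic d ℤ) = 0)
    (hco : IsCoprime (cyc M y).det ((cyclotomic d ℤ).eval q))
    (h : F ᵥ* M.map (Int.cast : ℤ → R) = (q : R) • F) (h0 : (F ⬝ᵥ fun k => (y k : R)) = 0) : F = 0 := by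
  have h1 := det_smul_eq_zero (F := F) (A := cyc M y) (funext fun i => by
    rw [vecMul_cyc_eigen h i, h0, mul_zero, Pi.zero_apply])
  have h2 := vecMul_aeval h (cyclotomic d ℤ)
  rw [hM, Matrix.map_zero _ Int.cast_zero, Matrix.vecMul_zero] at h2
  rw [show aeval (q : R) (cyclotomic d ℤ) = (((cyclotomic d ℤ).eval q : ℤ) : R) by
    rw [aeval_def, algebraMap_int_eq, ← eq_intCast (Int.castRingHom R) q, eval₂_at_apply, eq_intCast]] at h2
  obtain ⟨a, b, hab⟩ := hco
  have h3 : (((a * (cyc M y).det + b * (cyclotomic d ℤ).eval q : ℤ)) : R) • F = 0 := by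
    rw [Int.cast_add, Int.cast_mul, Int.cast_mul]
    rw [add_smul, mul_smul, mul_smul, h1, ← h2, smul_zero, smul_zero, add_zero]
  rwa [hab, Int.cast_one, one_smul] at h3

theorem eigen_exists {d : ℕ} (hl : 0 < l) (hd : d.totient = l) (hM : aeval M (cyclotomic d ℤ) = 0)
    (hco : IsCoprime (cyc M y).det ((cyclotomic d ℤ).eval q)) {u : R}
    (hu : (((cyclotomic d ℤ).eval q : ℤ) : R) * u = 0) :
    ∃ F : Fin l → R, F ᵥ* M.map (Int.cast : ℤ → R) = (q : R) • F ∧ (F ⬝ᵥ fun k => (y k : R)) = u := by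
  obtain ⟨a, b, hab⟩ := hco
  set I := (cyc M y).det with hI
  set ph := (cyclotomic d ℤ).eval q with hph
  set v : R := (a : R) * u with hv
  have hab' : (a : R) * (I : R) + (b : R) * (ph : R) = 1 := by exact_mod_cast congrArg (Int.cast (R := R)) hab
  have hIv : (I : R) * v = u := by rw [hv]; linear_combination u * hab' - (b : R) * hu
  have hmv : (ph : R) * v = 0 := by rw [hv]; linear_combination (a : R) * hu
  let w : Fin l → R := fun i => v * (q : R) ^ (i : ℕ)
  let F : Fin l → R := w ᵥ* (cyc M y).adjugate.map (Int.cast : ℤ → R)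
  have hFN : ∀ i : Fin l, (F ᵥ* (cyc M y).map (Int.cast : ℤ → R)) i = (I : R) * v * (q : R) ^ (i : ℕ) := by
    intro i
    simp only [F, Matrix.vecMul_vecMul]
    rw [show (cyc M y).adjugate.map (Int.cast : ℤ → R) = (Int.castRingHom R).mapMatrix (cyc M y).adjugate from rfl,
      show (cyc M y).map (Int.cast : ℤ → R) = (Int.castRingHom R).mapMatrix (cyc M y) from rfl, ← map_mul,
      Matrix.adjugate_mul, map_zsmul, map_one, Matrix.vecMul_smul, Matrix.vecMul_one]
    simp [← hI, w, mul_assoc]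
  let val : Matrix (Fin l) (Fin l) ℤ → R := fun A => F ⬝ᵥ fun k => ((A *ᵥ y) k : R)
  have hval_add : ∀ A B, val (A + B) = val A + val B := fun A B => by
    simp [val, Matrix.add_mulVec, dotProduct, mul_add, Finset.sum_add_distrib]
  have hval_smul : ∀ (c : ℤ) A, val (c • A) = (c : R) * val A := fun c A => by
    simp only [val, Matrix.smul_mulVec, dotProduct, Finset.mul_sum, Pi.smul_apply, smul_eq_mul, Int.cast_mul]
    exact Finset.sum_congr rfl fun k _ => mul_left_comm _ _ _
  have hpoly : ∀ p : ℤ[X], p.natDegree < l → val (aeval M p) = (I : R) * v * aeval (q : R) p := by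
    intro p hp
    rw [p.as_sum_range' l hp, map_sum, map_sum, Finset.mul_sum]
    refine (Finset.induction_on (motive := fun s => val (∑ i ∈ s, aeval M (monomial i (p.coeff i))) =
      ∑ i ∈ s, val (aeval M (monomial i (p.coeff i)))) (Finset.range l) (by simp [val, dotProduct])
      (fun i s hi ih => by rw [Finset.sum_insert hi, Finset.sum_insert hi, hval_add, ih])).trans ?_
    refine Finset.sum_congr rfl fun i hi => ?_
    rw [Finset.mem_range] at hi
    rw [aeval_monomial, aeval_monomial, eq_intCast, eq_intCast, ← zsmul_eq_mul, hval_smul]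
    have h5 : val (M ^ i) = (I : R) * v * (q : R) ^ i := hFN ⟨i, hi⟩
    rw [h5]; ring
  refine ⟨F, ?_, ?_⟩
  · have hG : (F ᵥ* M.map (Int.cast : ℤ → R) - (q : R) • F) ᵥ* (cyc M y).map (Int.cast : ℤ → R) = 0 := by
      funext i
      rw [Matrix.sub_vecMul, Matrix.smul_vecMul, Pi.sub_apply, Pi.smul_apply, hFN, Pi.zero_apply, sub_eq_zero]
      have e : ((F ᵥ* M.map (Int.cast : ℤ → R)) ᵥ* (cyc M y).map (Int.cast : ℤ → R)) i =
          val (M ^ ((i : ℕ) + 1)) := by
        rw [Matrix.vecMul_vecMul]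
        show (F ⬝ᵥ fun k => ((Int.castRingHom R).mapMatrix M * (Int.castRingHom R).mapMatrix (cyc M y)) k i) = _
        rw [← map_mul]
        refine congrArg (fun w : Fin l → R => F ⬝ᵥ w) (funext fun k => ?_)
        rw [pow_succ', ← Matrix.mulVec_mulVec]
        rfl
      rw [e, smul_eq_mul]
      rcases Nat.lt_or_ge ((i : ℕ) + 1) l with hlt | hge
      · rw [show val (M ^ ((i : ℕ) + 1)) = _ from hFN ⟨_, hlt⟩]
        simp only [pow_succ]; ring
      · have hil : (i : ℕ) + 1 = l := by have := i.isLt; omega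
        have hmon := cyclotomic.monic d ℤ
        have hdeg : (cyclotomic d ℤ).natDegree = l := by rw [natDegree_cyclotomic, hd]
        have hlt2 : (X ^ ((i : ℕ) + 1) - cyclotomic d ℤ : ℤ[X]).natDegree < l := by
          rw [hil]
          have hlt3 := degree_sub_lt_left (p := (X ^ l : ℤ[X])) (q := cyclotomic d ℤ)
            (by rw [degree_X_pow, degree_eq_natDegree hmon.ne_zero, hdeg]) (pow_ne_zero _ X_ne_zero)
            (by rw [hmon.leadingCoeff, (monic_X_pow l).leadingCoeff])
          rw [degree_X_pow] at hlt3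
          by_cases h0 : (X ^ l - cyclotomic d ℤ : ℤ[X]) = 0
          · rw [h0, natDegree_zero]; omega
          · exact (natDegree_lt_iff_degree_lt h0).2 hlt3
        have h6 := hpoly _ hlt2
        rw [map_sub, map_sub, map_pow, map_pow, aeval_X, aeval_X, hM, sub_zero,
          show aeval (q : R) (cyclotomic d ℤ) = (ph : R) by
            rw [aeval_def, algebraMap_int_eq, ← eq_intCast (Int.castRingHom R) q, eval₂_at_apply, eq_intCast]] at h6
        rw [h6, pow_succ]
        linear_combination -(I : R) * hmv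
    have h1 := det_smul_eq_zero hG
    have hmF : (ph : R) • F = 0 := by
      simp only [F, ← Matrix.smul_vecMul]
      rw [show (ph : R) • w = 0 from funext fun i => by simp [w, ← mul_assoc, hmv], Matrix.zero_vecMul]
    have h2 : (ph : R) • (F ᵥ* M.map (Int.cast : ℤ → R) - (q : R) • F) = 0 := by
      rw [smul_sub, ← Matrix.smul_vecMul, hmF, Matrix.zero_vecMul, smul_comm, hmF, smul_zero, sub_zero]
    have h3 : ((a : R) * (I : R) + (b : R) * (ph : R)) • (F ᵥ* M.map (Int.cast : ℤ → R) - (q : R) • F) = 0 := by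
      rw [add_smul, mul_smul, mul_smul, h1, h2, smul_zero, smul_zero, add_zero]
    rw [hab', one_smul] at h3
    exact sub_eq_zero.1 h3
  · have := hFN ⟨0, hl⟩
    simp only [pow_zero, mul_one, hIv] at this
    rw [← this]
    show _ = F ⬝ᵥ fun k => (((M ^ 0) *ᵥ y) k : R)
    rw [pow_zero, Matrix.one_mulVec]

end Eigen

theorem cyclotomic_eight : cyclotomic 8 ℤ = X ^ 4 + 1 := by
  have := cyclotomic_prime_pow_eq_geom_sum (R := ℤ) Nat.prime_two (n := 2)
  norm_num [Finset.sum_range_succ] at this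
  rw [this, add_comm]

theorem cyclotomic_thirty :
    cyclotomic 30 ℤ = X ^ 8 + X ^ 7 - X ^ 5 - X ^ 4 - X ^ 3 + X + 1 := by
  have h2 : cyclotomic 2 ℤ = X + 1 := cyclotomic_two ℤ
  have h6 : cyclotomic 6 ℤ = X ^ 2 - X + 1 := cyclotomic_six ℤ
  have h := cyclotomic_expand_eq_cyclotomic_mul Nat.prime_five (n := 6) (by norm_num) ℤ
  rw [h6] at h
  simp only [map_add, map_sub, map_pow, expand_X, map_one] at h
  norm_num at h
  refine mul_right_cancel₀ (b := (X : ℤ[X]) ^ 2 - X + 1) (h6 ▸ cyclotomic_ne_zero 6 ℤ) ?_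
  rw [← h]; ring

end Cfsg.Agent.Lib.ChevStructure.RegTorus
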