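import Cfsg.Agent.Lib.ChevStructure.RegTorus.Family

/-!
An invariant symmetric form on the root lattice, and Gram matrices of cyclic bases.
-/

set_option autoImplicit false
set_option linter.unusedSectionVars false

namespace Cfsg.Agent.Lib.ChevStructure.RegTorus

open Cfsg.Lie
open scoped Matrix

variable {l : ℕ} (B : Matrix (Fin l) (Fin l) ℤ)

/-- The bilinear form of a matrix. -/
def bil (x y : Fin l → ℤ) : ℤ := x ⬝ᵥ B *ᵥ y

theorem bil_mulVec {M : Matrix (Fin l) (Fin l) ℤ} (hM : Mᵀ * B * M = B) (x y : Fin l → ℤ) :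
    bil B (M *ᵥ x) (M *ᵥ y) = bil B x y := by
  have e : bil B (M *ᵥ x) (M *ᵥ y) = x ⬝ᵥ (Mᵀ * B * M) *ᵥ y := by
    rw [bil, Matrix.mul_assoc, ← Matrix.mulVec_mulVec, ← Matrix.mulVec_mulVec, Matrix.dotProduct_mulVec x Mᵀ,
      Matrix.vecMul_transpose]
  rw [e, hM, bil]

theorem bil_comm (hB : Bᵀ = B) (x y : Fin l → ℤ) : bil B x y = bil B y x := by
  rw [bil, bil, Matrix.dotProduct_mulVec, ← Matrix.mulVec_transpose, hB, dotProduct_comm]

theorem bil_pow {M : Matrix (Fin l) (Fin l) ℤ} (hM : Mᵀ * B * M = B) (y : Fin l → ℤ) (i k : ℕ) :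
    bil B ((M ^ i) *ᵥ y) ((M ^ (i + k)) *ᵥ y) = bil B y ((M ^ k) *ᵥ y) := by
  induction i with
  | zero => rw [pow_zero, Matrix.one_mulVec, Nat.zero_add]
  | succ i ih =>
    rw [show i + 1 + k = (i + k) + 1 by omega, pow_succ', pow_succ', ← Matrix.mulVec_mulVec, ← Matrix.mulVec_mulVec,
      bil_mulVec B hM, ih]

theorem bil_pow_dist (hB : Bᵀ = B) {M : Matrix (Fin l) (Fin l) ℤ} (hM : Mᵀ * B * M = B) (y : Fin l → ℤ) (i j : ℕ) :
    bil B ((M ^ i) *ᵥ y) ((M ^ j) *ᵥ y) = bil B y ((M ^ (if i ≤ j then j - i else i - j)) *ᵥ y) := by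
  split_ifs with h
  · conv_lhs => rw [show j = i + (j - i) by omega]
    exact bil_pow B hM y i (j - i)
  · rw [bil_comm B hB]
    conv_lhs => rw [show i = j + (i - j) by omega]
    exact bil_pow B hM y j (i - j)

theorem gram_entry (M : Matrix (Fin l) (Fin l) ℤ) (y : Fin l → ℤ) (i j : Fin l) :
    ((cyc M y)ᵀ * B * cyc M y) i j = bil B ((M ^ (i : ℕ)) *ᵥ y) ((M ^ (j : ℕ)) *ᵥ y) := by
  rw [Matrix.mul_assoc]
  rfl

/-- The relation of the values of the form given by an annihilating polynomial. -/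
theorem bil_aeval (M : Matrix (Fin l) (Fin l) ℤ) (z y : Fin l → ℤ) (a : ℤ) (k : ℕ) :
    bil B z ((a • M ^ k) *ᵥ y) = a * bil B z ((M ^ k) *ᵥ y) := by
  simp only [bil, Matrix.smul_mulVec, Matrix.mulVec_smul, dotProduct_smul, smul_eq_mul]

section Core

variable {D : ChevalleyDatum} (C : Core D) (B : Matrix (Fin D.rank) (Fin D.rank) ℤ)

/-- The matrix of a fundamental reflection from the Cartan integers. -/
def srefMat (a : Fin D.rank → Fin D.rank → ℤ) (i : Fin D.rank) : Matrix (Fin D.rank) (Fin D.rank) ℤ :=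
  Matrix.of fun m k => (if m = k then 1 else 0) - if m = i then a i k else 0

theorem mat_sref (i : Fin D.rank) : mat C (C.sref i) = srefMat (fun j k => A D j (C.p k)) i := by
  ext m k
  simp [mat, srefMat, C.sref_apply, C.v_w, C.v_p, Pi.single_apply]

theorem mat_invariant {a : Fin D.rank → Fin D.rank → ℤ} (ha : ∀ j k, A D j (C.p k) = a j k)
    (h : ∀ i, (srefMat a i)ᵀ * B * srefMat a i = B) {σ : Equiv.Perm (Rt D)} (hσ : σ ∈ C.WG) :
    (mat C σ)ᵀ * B * mat C σ = B := by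
  obtain ⟨L, rfl⟩ := C.mem_WG_iff.1 hσ
  induction L with
  | nil => rw [C.pprod_nil, mat_one]; simp
  | cons i L ih =>
    rw [C.pprod_cons, mat_mul C (Subgroup.subset_closure ⟨i, rfl⟩), mat_sref, Matrix.transpose_mul,
      funext fun j => funext (ha j)]
    calc (mat C (C.pprod L))ᵀ * (srefMat a i)ᵀ * B * (srefMat a i * mat C (C.pprod L))
        = (mat C (C.pprod L))ᵀ * ((srefMat a i)ᵀ * B * srefMat a i) * mat C (C.pprod L) := by
          simp only [Matrix.mul_assoc]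
      _ = _ := by rw [h i, ih (C.pprod_mem_WG L)]

/-- A property of pairs of roots, checked when the first one is simple. -/
theorem pair_prop (hinv : ∀ σ ∈ C.WG, (mat C σ)ᵀ * B * mat C σ = B) (Q : ℤ → ℤ → ℤ → Prop)
    (h : ∀ i y, y = C.p i ∨ y = (C.p i).rev ∨
      Q (bil B (C.v (C.p i)) (C.v (C.p i))) (bil B (C.v y) (C.v y)) (bil B (C.v (C.p i)) (C.v y)))
    (x y : Rt D) : y = x ∨ y = x.rev ∨ Q (bil B (C.v x) (C.v x)) (bil B (C.v y) (C.v y)) (bil B (C.v x) (C.v y)) := by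
  revert y
  refine C.ind (fun x => ∀ y, y = x ∨ y = x.rev ∨
    Q (bil B (C.v x) (C.v x)) (bil B (C.v y) (C.v y)) (bil B (C.v x) (C.v y))) h ?_ x
  intro i x ih y
  have hw : C.sref i ∈ C.WG := Subgroup.subset_closure ⟨i, rfl⟩
  have key : ∀ a b, bil B (C.v (C.w i a)) (C.v (C.w i b)) = bil B (C.v a) (C.v b) := fun a b => by
    rw [← C.sref_apply, ← C.sref_apply, ← mat_mulVec C hw, ← mat_mulVec C hw, bil_mulVec B (hinv _ hw)]
  rcases ih (C.w i y) with e | e | e
  · exact Or.inl (by rw [← e, C.w_w])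
  · refine Or.inr (Or.inl ?_)
    rw [← C.w_rev, ← e, C.w_w]
  · refine Or.inr (Or.inr ?_)
    have h1 := key x (C.w i y)
    rw [C.w_w] at h1
    rw [h1, key x x]
    have h2 := key (C.w i y) (C.w i y)
    rw [C.w_w] at h2
    rw [h2]
    exact e

theorem v_pow {σ : Equiv.Perm (Rt D)} (hσ : σ ∈ C.WG) (k : ℕ) (x : Rt D) :
    (mat C σ ^ k) *ᵥ C.v x = C.v ((σ ^ k) x) := by
  rw [← mat_pow C hσ, mat_mulVec C (pow_mem hσ k)]

/-- The iterates of a root in a cyclic basis are distinct up to sign. -/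
theorem pow_apply_ne {σ : Equiv.Perm (Rt D)} (hσ : σ ∈ C.WG) {d : ℕ} (hd : 0 < d) (hφ : d.totient = D.rank)
    (hΦ : Polynomial.aeval (mat C σ) (Polynomial.cyclotomic d ℤ) = 0) (x : Rt D) {k : ℕ} (hk : 0 < k)
    (hk' : k < D.rank) : (σ ^ k) x ≠ x ∧ (σ ^ k) x ≠ x.rev := by
  have hdet := det_cyclic_ne_zero hd hφ hΦ (C.v_ne_zero x)
  have key : ∀ s : ℤ, (∀ m, C.v ((σ ^ k) x) m = s * C.v x m) → False := by
    intro s hs
    refine hdet ?_
    set N := Matrix.of fun a (i : Fin D.rank) => ((mat C σ ^ (i : ℕ)) *ᵥ C.v x) a with hN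
    have h1 : (N *ᵥ (Pi.single ⟨k, hk'⟩ 1 - s • Pi.single ⟨0, by omega⟩ 1)) = 0 := by
      funext a
      simp only [Matrix.mulVec_sub, Matrix.mulVec_smul, Matrix.mulVec_single_one, Pi.sub_apply, Pi.smul_apply,
        smul_eq_mul, Matrix.col_apply, hN, Matrix.of_apply, pow_zero, Matrix.one_mulVec, v_pow C hσ, Pi.zero_apply,
        hs a]
      simp
    refine Matrix.exists_mulVec_eq_zero_iff.1 ⟨_, fun h => ?_, h1⟩
    have := congrFun h ⟨k, hk'⟩
    rw [Pi.sub_apply, Pi.smul_apply, Pi.single_eq_same, Pi.single_eq_of_ne (fun e => hk.ne' (congrArg Fin.val e)),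
      smul_zero, sub_zero, Pi.zero_apply] at this
    exact one_ne_zero this
  exact ⟨fun e => key 1 fun m => by rw [e, one_mul], fun e => key (-1) fun m => by rw [e, C.v_rev]; simp⟩

end Core

end Cfsg.Agent.Lib.ChevStructure.RegTorus
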