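import Cfsg.Agent.Lib.ChevStructure.RegTorus.Main
import Cfsg.Agent.Lib.ChevStructure.RegTorus.Gram
import Cfsg.Agent.Lib.ChevStructure.Order.CertE8

/-!
E₈(q) has a self-centralising cyclic subgroup of order Φ₃₀(q).
-/

set_option autoImplicit false
set_option maxRecDepth 100000
set_option linter.unusedSectionVars false

namespace Cfsg.Agent.Lib.ChevStructure.RegTorus.E8

open Cfsg.Lie
open scoped Matrix

/-- the core -/
noncomputable abbrev C : Core chevE8 := Cert.E8.core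

/-- the invariant form -/
def B : Matrix (Fin chevE8.rank) (Fin chevE8.rank) ℤ :=
  matL chevE8.rank [[2, 0, -1, 0, 0, 0, 0, 0], [0, 2, 0, -1, 0, 0, 0, 0], [-1, 0, 2, -1, 0, 0, 0, 0], [0, -1, -1, 2, -1, 0, 0, 0], [0, 0, 0, -1, 2, -1, 0, 0], [0, 0, 0, 0, -1, 2, -1, 0], [0, 0, 0, 0, 0, -1, 2, -1], [0, 0, 0, 0, 0, 0, -1, 2]]

/-- the Cartan integers -/
def aE (j k : Fin chevE8.rank) : ℤ := Data.E8.fast.a j (Data.E8.fast.p k)

/-- coordinates of a root -/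
def vv (r : ℕ) : Fin chevE8.rank → ℤ := fun m => Data.E8.fast.v r m

theorem v_eq (x : Rt chevE8) : C.v x = vv x.val := rfl

theorem p_eq (i : Fin chevE8.rank) : (C.p i).val = Data.E8.fast.p i := Cert.E8.certified.p_val i

theorem aE_eq (j k : Fin chevE8.rank) : A chevE8 j (C.p k) = aE j k := by
  rw [Cert.E8.certified.A_val, p_eq]; rfl

theorem refl_inv : ∀ i, (srefMat aE i)ᵀ * B * srefMat aE i = B := by decide +kernel

theorem B_symm : Bᵀ = B := by decide +kernel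

theorem inv (σ : Equiv.Perm (Rt chevE8)) (hσ : σ ∈ C.WG) : (mat C σ)ᵀ * B * mat C σ = B :=
  mat_invariant C B aE_eq refl_inv hσ

/-- the values of the form on a pair of roots -/
def Q (a b c : ℤ) : Prop := a = 2 ∧ b = 2 ∧ (c = -1 ∨ c = 0 ∨ c = 1)

instance (a b c : ℤ) : Decidable (Q a b c) := by unfold Q; infer_instance

theorem table : ∀ i : Fin chevE8.rank, ∀ y : Rt chevE8,
    y.val = Data.E8.fast.p i ∨ y.val = chevE8.nroots - (Data.E8.fast.p i + 1) ∨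
      Q (bil B (vv (Data.E8.fast.p i)) (vv (Data.E8.fast.p i))) (bil B (vv y.val) (vv y.val))
        (bil B (vv (Data.E8.fast.p i)) (vv y.val)) := by
  unfold Rt; decide +kernel

theorem norms : ∀ y : Rt chevE8, bil B (vv y.val) (vv y.val) = 2 := by
  unfold Rt; decide +kernel

theorem small : ∀ (x : Rt chevE8) (k : Fin chevE8.rank), |vv x.val k| ≤ 6 := by
  unfold Rt; decide +kernel

theorem pair (x y : Rt chevE8) : y = x ∨ y = x.rev ∨
    Q (bil B (C.v x) (C.v x)) (bil B (C.v y) (C.v y)) (bil B (C.v x) (C.v y)) := by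
  refine pair_prop C B inv Q (fun i y => ?_) x y
  rw [v_eq, v_eq, p_eq]
  rcases table i y with h | h | h
  · exact Or.inl (Fin.ext (h.trans (p_eq i).symm))
  · exact Or.inr (Or.inl (Fin.ext (by rw [Fin.val_rev, p_eq]; exact h)))
  · exact Or.inr (Or.inr h)

/-- Toeplitz matrix -/
def toe (g : List ℤ) : Matrix (Fin chevE8.rank) (Fin chevE8.rank) ℤ :=
  Matrix.of fun i j => g.getD (if i.val ≤ j.val then j.val - i.val else i.val - j.val) 0

/-- possible rows of the Gram matrix with a multiple of the inverse -/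
def certs : List (List ℤ × ℤ × List (List ℤ)) := [
  ([2, -1, -1, 0, 0, 1, -1, -1], 5,
   [[6, -1, -5, -5, -3, -1, 5, 7], [-1, -2, -6, -3, -1, 3, 4, 5], [-5, -6, -2, -1, 2, 4, 3, -1], [-5, -3, -1, 2, 1, 2, -1, -3], [-3, -1, 2, 1, 2, -1, -3, -5], [-1, 3, 4, 2, -1, -2, -6, -5], [5, 4, 3, -1, -3, -6, -2, -1], [7, 5, -1, -3, -5, -5, -1, 6]]),
  ([2, -1, 0, 0, 0, 1, -1, 0], 1,
   [[2, 2, 1, 0, -1, -2, -1, 0], [2, 4, 3, 1, -1, -3, -3, -1], [1, 3, 4, 2, 0, -2, -3, -2], [0, 1, 2, 2, 1, 0, -1, -1], [-1, -1, 0, 1, 2, 2, 1, 0], [-2, -3, -2, 0, 2, 4, 3, 1], [-1, -3, -3, -1, 1, 3, 4, 2], [0, -1, -2, -1, 0, 1, 2, 2]]),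
  ([2, -1, 0, 1, -1, 1, 0, -1], 1,
   [[2, 1, 0, -1, -1, -1, 0, 1], [1, 2, 1, 0, -1, -1, -1, 0], [0, 1, 2, 1, 0, -1, -1, -1], [-1, 0, 1, 2, 1, 0, -1, -1], [-1, -1, 0, 1, 2, 1, 0, -1], [-1, -1, -1, 0, 1, 2, 1, 0], [0, -1, -1, -1, 0, 1, 2, 1], [1, 0, -1, -1, -1, 0, 1, 2]]),
  ([2, -1, 1, 0, 0, 1, -1, 1], 1,
   [[2, 1, -1, -1, -1, -1, 1, 1], [1, 2, 0, -1, -1, -1, 0, 1], [-1, 0, 2, 1, 0, 0, -1, -1], [-1, -1, 1, 2, 1, 0, -1, -1], [-1, -1, 0, 1, 2, 1, -1, -1], [-1, -1, 0, 0, 1, 2, 0, -1], [1, 0, -1, -1, -1, 0, 2, 1], [1, 1, -1, -1, -1, -1, 1, 2]]),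
  ([2, -1, 1, 1, -1, 1, 0, 0], 5,
   [[4, 1, 0, 0, -2, -4, 0, 3], [1, 2, 1, 3, 1, -3, -4, 0], [0, 1, 2, 1, 3, 1, -3, -4], [0, 3, 1, -2, -1, 3, 1, -2], [-2, 1, 3, -1, -2, 1, 3, 0], [-4, -3, 1, 3, 1, 2, 1, 0], [0, -4, -3, 1, 3, 1, 2, 1], [3, 0, -4, -2, 0, 0, 1, 4]]),
  ([2, 0, -1, 0, 1, 1, -1, -1], 1,
   [[4, 1, -1, -2, -2, -2, 1, 3], [1, 2, 0, 0, -1, -1, -1, 1], [-1, 0, 2, 1, 1, 0, -1, -2], [-2, 0, 1, 2, 1, 1, -1, -2], [-2, -1, 1, 1, 2, 1, 0, -2], [-2, -1, 0, 1, 1, 2, 0, -1], [1, -1, -1, -1, 0, 0, 2, 1], [3, 1, -2, -2, -2, -1, 1, 4]]),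
  ([2, 0, 0, 0, 1, 1, -1, 0], 1,
   [[6, 2, -4, -2, -3, -4, 4, 4], [2, 4, -2, -2, -1, -3, 0, 4], [-4, -2, 4, 2, 2, 3, -3, -4], [-2, -2, 2, 2, 1, 2, -1, -3], [-3, -1, 2, 1, 2, 2, -2, -2], [-4, -3, 3, 2, 2, 4, -2, -4], [4, 0, -3, -1, -2, -2, 4, 2], [4, 4, -4, -3, -2, -4, 2, 6]]),
  ([2, 0, 0, 1, 0, 1, 0, -1], 1,
   [[8, 1, -2, -5, -4, -3, 2, 7], [1, 2, -1, 0, -2, 0, -1, 2], [-2, -1, 2, 1, 2, 0, 0, -3], [-5, 0, 1, 4, 2, 2, -2, -4], [-4, -2, 2, 2, 4, 1, 0, -5], [-3, 0, 0, 2, 1, 2, -1, -2], [2, -1, 0, -2, 0, -1, 2, 1], [7, 2, -3, -4, -5, -2, 1, 8]]),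
  ([2, 0, 1, 0, 1, 1, -1, 1], 5,
   [[-4, -1, 5, 0, 2, 4, -5, -3], [-1, -2, 4, 2, -1, 3, -1, -5], [5, 4, -2, -1, -3, -6, 3, 4], [0, 2, -1, 2, 1, -3, -1, 2], [2, -1, -3, 1, 2, -1, 2, 0], [4, 3, -6, -3, -1, -2, 4, 5], [-5, -1, 3, -1, 2, 4, -2, -1], [-3, -5, 4, 2, 0, 5, -1, -4]]),
  ([2, 0, 1, 1, 0, 1, 0, 0], 1,
   [[2, 1, -1, -2, -1, 0, 1, 1], [1, 2, 0, -2, -2, 0, 1, 1], [-1, 0, 2, 1, -1, -1, 0, 0], [-2, -2, 1, 4, 2, -1, -2, -1], [-1, -2, -1, 2, 4, 1, -2, -2], [0, 0, -1, -1, 1, 2, 0, -1], [1, 1, 0, -2, -2, 0, 2, 1], [1, 1, 0, -1, -2, -1, 1, 2]]),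
  ([2, 1, 0, 1, 1, 1, 0, -1], 5,
   [[-6, 1, 0, 5, 3, 1, 0, -7], [1, 2, 1, -2, 1, -3, 1, 0], [0, 1, 2, 1, -2, 1, -3, 1], [5, -2, 1, -2, -1, -2, 1, 3], [3, 1, -2, -1, -2, 1, -2, 5], [1, -3, 1, -2, 1, 2, 1, 0], [0, 1, -3, 1, -2, 1, 2, 1], [-7, 0, 1, 3, 5, 0, 1, -6]]),
  ([2, 1, 1, 1, 1, 1, 0, 0], 1,
   [[4, 1, -2, -2, -2, -2, 2, 3], [1, 2, -1, -1, -1, -1, 0, 2], [-2, -1, 2, 1, 1, 1, -1, -2], [-2, -1, 1, 2, 1, 1, -1, -2], [-2, -1, 1, 1, 2, 1, -1, -2], [-2, -1, 1, 1, 1, 2, -1, -2], [2, 0, -1, -1, -1, -1, 2, 1], [3, 2, -2, -2, -2, -2, 1, 4]])]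

theorem certs_ok : ∀ t ∈ certs, (t.2.1 = 1 ∨ t.2.1 = 5) ∧ toe t.1 * matL chevE8.rank t.2.2 = t.2.1 • 1 := by
  decide +kernel

/-- the row of the Gram matrix from its first values -/
def grow (a b c : ℤ) : List ℤ :=
  let g4 := 1 + a - c
  let g5 := 2 + a - g4 - c
  let g6 := c - g5
  [2, a, b, c, g4, g5, g6, g4 + c + b - a - 2 - g6]

theorem certs_complete : ∀ a ∈ ([-1, 0, 1] : List ℤ), ∀ b ∈ ([-1, 0, 1] : List ℤ), ∀ c ∈ ([-1, 0, 1] : List ℤ),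
    (∀ i : Fin 7, (grow a b c).getD (i.val + 1) 0 ∈ ([-1, 0, 1] : List ℤ)) →
      ∃ t ∈ certs, t.1 = grow a b c := by
  decide +kernel

theorem det_dvd {σ : Equiv.Perm (Rt chevE8)} (hσ : σ ∈ C.WG)
    (hΦ : Polynomial.aeval (mat C σ) (Polynomial.cyclotomic 30 ℤ) = 0) (x : Rt chevE8) :
    (cyc (mat C σ) (C.v x)).det ∣ (5 : ℤ) ^ 8 := by
  have hi := inv σ hσ
  have hb : ∀ k, 0 < k → k < 8 → bil B (C.v x) ((mat C σ ^ k) *ᵥ C.v x) ∈ ([-1, 0, 1] : List ℤ) := by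
    intro k h0 h8
    rw [v_pow C hσ]
    obtain ⟨h1, h2⟩ := pow_apply_ne C hσ (d := 30) (by norm_num) (by decide +kernel) hΦ x h0 h8
    rcases pair x ((σ ^ k) x) with h | h | h
    · exact absurd h h1
    · exact absurd h h2
    · obtain ⟨-, -, h | h | h⟩ := h <;> simp [h]
  have h0 : bil B (C.v x) (C.v x) = 2 := norms x
  generalize mat C σ = M at hi hb hΦ ⊢
  generalize C.v x = u at hb h0 ⊢
  rw [cyclotomic_thirty] at hΦ
  simp only [map_add, map_sub, map_pow, Polynomial.aeval_X, map_one] at hΦ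
  have hlin : ∀ w y z : Fin chevE8.rank → ℤ, bil B w (y + z) = bil B w y + bil B w z ∧
      bil B w (y - z) = bil B w y - bil B w z := fun w y z => by
    constructor <;> simp [bil, Matrix.mulVec_add, Matrix.mulVec_sub, dotProduct_add, dotProduct_sub]
  have rec' : ∀ s : ℕ, bil B ((M ^ s) *ᵥ u) ((M ^ 8) *ᵥ u) + bil B ((M ^ s) *ᵥ u) ((M ^ 7) *ᵥ u) -
      bil B ((M ^ s) *ᵥ u) ((M ^ 5) *ᵥ u) - bil B ((M ^ s) *ᵥ u) ((M ^ 4) *ᵥ u) -
      bil B ((M ^ s) *ᵥ u) ((M ^ 3) *ᵥ u) + bil B ((M ^ s) *ᵥ u) ((M ^ 1) *ᵥ u) +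
      bil B ((M ^ s) *ᵥ u) ((M ^ 0) *ᵥ u) = 0 := fun s => by
    rw [← (hlin _ _ _).1, ← (hlin _ _ _).2, ← (hlin _ _ _).2, ← (hlin _ _ _).2, ← (hlin _ _ _).1, ← (hlin _ _ _).1,
      ← Matrix.add_mulVec, ← Matrix.sub_mulVec, ← Matrix.sub_mulVec, ← Matrix.sub_mulVec, ← Matrix.add_mulVec,
      ← Matrix.add_mulVec, pow_zero, pow_one, hΦ]
    simp [bil]
  have r1 := rec' 1
  have r2 := rec' 2
  have r3 := rec' 3
  have r4 := rec' 4
  simp only [bil_pow_dist B B_symm hi] at r1 r2 r3 r4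
  norm_num [h0] at r1 r2 r3 r4
  obtain ⟨t, ht, hg⟩ := certs_complete _ (hb 1 (by norm_num) (by norm_num)) _ (hb 2 (by norm_num) (by norm_num)) _
    (hb 3 (by norm_num) (by norm_num)) (fun i => by
      have := hb (i.val + 1) (Nat.succ_pos _) (by omega)
      fin_cases i <;>
        first
        | exact this
        | (simp only [grow, List.getD_cons_succ, List.getD_cons_zero] at this ⊢
           norm_num at this ⊢
           omega))
  obtain ⟨hk, hU⟩ := certs_ok t ht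
  have hG : (cyc M u)ᵀ * B * cyc M u = toe t.1 := by
    ext i j
    rw [gram_entry, bil_pow_dist B B_symm hi, hg]
    show _ = (grow _ _ _).getD (if i.val ≤ j.val then j.val - i.val else i.val - j.val) 0
    obtain ⟨n, hn, hn8⟩ : ∃ n, (if i.val ≤ j.val then j.val - i.val else i.val - j.val) = n ∧ n < 8 := by
      refine ⟨_, rfl, ?_⟩
      have hi' : i.val < 8 := i.isLt
      have hj' : j.val < 8 := j.isLt
      split_ifs <;> omega
    rw [hn]
    interval_cases n <;>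
      simp only [grow, List.getD_cons_succ, List.getD_cons_zero, pow_zero, pow_one, Matrix.one_mulVec, h0] <;> omega
  have h := congrArg Matrix.det hU
  rw [Matrix.det_mul, ← hG, Matrix.det_mul, Matrix.det_smul, Matrix.det_one, mul_one, Fintype.card_fin] at h
  have hd : (cyc M u).det ∣ t.2.1 ^ chevE8.rank := h ▸ Dvd.dvd.mul_right (dvd_mul_left _ _) _
  refine hd.trans ?_
  show t.2.1 ^ 8 ∣ _
  rcases hk with hk | hk <;> rw [hk]
  exact one_pow (M := ℤ) 8 ▸ one_dvd _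

theorem exists_torus {F : Type*} [Field F] [Fintype F] (q : ℕ) (hF : Fintype.card F = q) :
    ∃ H : Subgroup ↥(chevE8.group F), IsCyclic ↥H ∧
      Nat.card ↥H = q ^ 8 + q ^ 7 - q ^ 5 - q ^ 4 - q ^ 3 + q + 1 ∧
      Subgroup.centralizer (H : Set ↥(chevE8.group F)) = H := by
  have hq2 : 2 ≤ q := hF ▸ Fintype.one_lt_card
  set m := q ^ 8 + q ^ 7 - q ^ 5 - q ^ 4 - q ^ 3 + q + 1 with hm
  have hmv : (Polynomial.cyclotomic 30 ℤ).eval (q : ℤ) = (m : ℤ) := by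
    have h5 : q ^ 5 + q ^ 4 + q ^ 3 ≤ q ^ 8 := by
      have a4 : q ^ 4 ≤ q ^ 5 := Nat.pow_le_pow_right (by omega) (by norm_num)
      have a3 : q ^ 3 ≤ q ^ 5 := Nat.pow_le_pow_right (by omega) (by norm_num)
      have a8 : 8 * q ^ 5 ≤ q ^ 8 := by
        rw [show q ^ 8 = q ^ 3 * q ^ 5 by ring]
        exact Nat.mul_le_mul_right _ (Nat.pow_le_pow_left hq2 3)
      omega
    rw [cyclotomic_thirty, hm]
    simp only [Polynomial.eval_add, Polynomial.eval_sub, Polynomial.eval_pow, Polynomial.eval_X, Polynomial.eval_one]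
    rw [Nat.cast_add, Nat.cast_add, Nat.cast_sub (by omega), Nat.cast_sub (by omega), Nat.cast_sub (by omega)]
    push_cast
    ring
  have hmod : ∀ p : ℕ, (∀ x : ZMod p, x ^ 8 + x ^ 7 - x ^ 5 - x ^ 4 - x ^ 3 + x + 1 ≠ 0) → ¬ p ∣ m := by
    intro p hp hd
    refine hp (q : ZMod p) ?_
    have h := congrArg (Int.cast : ℤ → ZMod p) hmv
    rw [cyclotomic_thirty, Int.cast_natCast, (ZMod.natCast_eq_zero_iff m p).2 hd] at h
    simpa using h
  have h2 := hmod 2 (by decide)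
  have h3 := hmod 3 (by decide)
  have h5 := hmod 5 (by decide)
  have hm1 : m ≠ 1 := by
    have : 0 < q ^ 8 + q ^ 7 - q ^ 5 - q ^ 4 - q ^ 3 + q := by omega
    omega
  obtain ⟨r, hr, hrm⟩ := Nat.exists_prime_and_dvd hm1
  haveI : Fact r.Prime := ⟨hr⟩
  have hr30 : ¬ r ∣ 30 := by
    intro hd
    have hle := Nat.le_of_dvd (by norm_num) hd
    interval_cases r <;> first | omega | exact absurd hrm h2 | exact absurd hrm h3 | exact absurd hrm h5 |
      exact absurd hr (by norm_num)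
  haveI : NeZero ((30 : ℕ) : ZMod r) := ⟨fun h => hr30 ((ZMod.natCast_eq_zero_iff _ r).1 h)⟩
  have hord : orderOf (q : ZMod r) = 30 := by
    have h : (Polynomial.cyclotomic 30 (ZMod r)).IsRoot (q : ZMod r) := by
      rw [Polynomial.IsRoot, ← Polynomial.map_cyclotomic 30 (Int.castRingHom (ZMod r)), Polynomial.eval_map,
        ← map_natCast (Int.castRingHom (ZMod r)) q, Polynomial.eval₂_at_apply, hmv, eq_intCast, Int.cast_natCast]
      exact (ZMod.natCast_eq_zero_iff m r).2 hrm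
    exact ((Polynomial.isRoot_cyclotomic_iff).1 h).eq_orderOf.symm
  have hr31 : 31 ≤ r := by
    have h0 : (q : ZMod r) ≠ 0 := fun h => by
      rw [h, orderOf_eq_zero_iff'.2 (fun n hn => by simp [zero_pow hn.ne'])] at hord
      norm_num at hord
    have h1 := orderOf_dvd_of_pow_eq_one (ZMod.pow_card_sub_one_eq_one h0)
    rw [hord] at h1
    have := Nat.le_of_dvd (by have := hr.two_le; omega) h1
    omega
  have hd1 : ∀ i : Fin chevE8.rank, Order.DataTorus.dE8.getD i.val 0 = 1 := by decide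
  have hS : Setup C r 30 q m [2, 8, 12, 14, 18, 20, 24, 30] :=
    { comm := Cert.E8.core.commOK_mild mildE8
      prime := hr
      rank_lt := by show 8 + 1 < r; omega
      v_small := fun x k => by
        rw [v_eq]
        have := small x k
        omega
      ord := hord
      tot := by decide +kernel
      val := hmv
      len := rfl
      degs_prime := fun e he => by
        have h30 : e ≤ 30 ∧ 0 < e := by fin_cases he <;> omega
        exact ⟨fun hd => by have := Nat.le_of_dvd h30.2 hd; omega, h30.2⟩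
      card_group := fun K _ _ => by
        have := Order.CertE8.card_group (K := K) rfl
        simp only [hd1, Nat.gcd_one_right, Finset.prod_const_one, one_mul] at this
        exact this
      card_diag := fun K _ _ => by
        have := Order.CertE8.card_diagonal (K := K) rfl
        simp only [hd1, Nat.gcd_one_right, Finset.prod_const_one, one_mul] at this
        exact this
      index := by
        intro σ hσ hΦ
        refine ⟨fun x hd => ?_, C.p ⟨0, by decide⟩, ?_⟩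
        · have h := (Nat.prime_iff_prime_int.1 hr).dvd_of_dvd_pow (hd.trans (det_dvd hσ hΦ x))
          have := Int.le_of_dvd (by norm_num) h
          omega
        · refine IsCoprime.of_isCoprime_of_dvd_left (IsCoprime.pow_left ?_) (det_dvd hσ hΦ _)
          refine ((Nat.prime_iff_prime_int.1 Nat.prime_five).coprime_iff_not_dvd).2 fun h => h5 ?_
          exact_mod_cast h }
  refine RegTorus.exists_torus hS hF (hrm.trans ?_)
  have hcF := Order.CertE8.card_group (K := F) hF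
  simp only [hd1, Nat.gcd_one_right, Finset.prod_const_one, one_mul] at hcF
  rw [hcF]
  refine Dvd.dvd.mul_left ?_ _
  refine dvd_trans ?_ (List.dvd_prod (a := q ^ 30 - 1) (by simp))
  rw [← Int.natCast_dvd_natCast, ← hmv, Nat.cast_sub (Nat.one_le_pow _ _ (by omega)), Nat.cast_pow, Nat.cast_one]
  have h := Polynomial.eval_dvd (x := (q : ℤ)) (Polynomial.cyclotomic.dvd_X_pow_sub_one 30 ℤ)
  simpa using h

end Cfsg.Agent.Lib.ChevStructure.RegTorus.E8
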