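import Cfsg.Agent.Lib.ChevStructure.RegTorus.Main
import Cfsg.Agent.Lib.ChevStructure.RegTorus.Gram
import Cfsg.Agent.Lib.ChevStructure.Order.CertF4
import Mathlib.GroupTheory.OrderOfElement

/-!
F₄(q) has a self-centralising cyclic subgroup of order q⁴ + 1.
-/

set_option autoImplicit false
set_option maxRecDepth 100000
set_option linter.unusedSectionVars false

namespace Cfsg.Agent.Lib.ChevStructure.RegTorus.F4

open Cfsg.Lie
open scoped Matrix

/-- the core -/
noncomputable abbrev C : Core chevF4 := Cert.F4.core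

/-- the invariant form -/
def B : Matrix (Fin chevF4.rank) (Fin chevF4.rank) ℤ :=
  matL chevF4.rank [[2, -1, 0, 0], [-1, 2, -2, 0], [0, -2, 4, -2], [0, 0, -2, 4]]

/-- the Cartan integers -/
def aF (j k : Fin chevF4.rank) : ℤ := Data.F4.fast.a j (Data.F4.fast.p k)

/-- coordinates of a root -/
def vv (r : ℕ) : Fin chevF4.rank → ℤ := fun m => Data.F4.fast.v r m

theorem v_eq (x : Rt chevF4) : C.v x = vv x.val := rfl

theorem p_eq (i : Fin chevF4.rank) : (C.p i).val = Data.F4.fast.p i := Cert.F4.certified.p_val i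

theorem aF_eq (j k : Fin chevF4.rank) : A chevF4 j (C.p k) = aF j k := by
  rw [Cert.F4.certified.A_val, p_eq]; rfl

theorem refl_inv : ∀ i, (srefMat aF i)ᵀ * B * srefMat aF i = B := by decide +kernel

theorem B_symm : Bᵀ = B := by decide +kernel

theorem B_det : B.det = 4 := by decide +kernel

theorem B_adj : B * B.adjugate = (4 : ℤ) • 1 := by rw [Matrix.mul_adjugate, B_det]

theorem inv (σ : Equiv.Perm (Rt chevF4)) (hσ : σ ∈ C.WG) : (mat C σ)ᵀ * B * mat C σ = B :=
  mat_invariant C B aF_eq refl_inv hσ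

/-- the values of the form on a pair of roots -/
def Q (a b c : ℤ) : Prop :=
  a = b → (a = 2 → c = -1 ∨ c = 0 ∨ c = 1) ∧ (a = 4 → c = -2 ∨ c = 0 ∨ c = 2) ∧ (a = 2 ∨ a = 4)

instance (a b c : ℤ) : Decidable (Q a b c) := by unfold Q; infer_instance

theorem table : ∀ i : Fin chevF4.rank, ∀ y : Rt chevF4,
    y.val = Data.F4.fast.p i ∨ y.val = chevF4.nroots - (Data.F4.fast.p i + 1) ∨
      Q (bil B (vv (Data.F4.fast.p i)) (vv (Data.F4.fast.p i))) (bil B (vv y.val) (vv y.val))
        (bil B (vv (Data.F4.fast.p i)) (vv y.val)) := by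
  unfold Rt; decide +kernel

theorem norms : ∀ y : Rt chevF4, bil B (vv y.val) (vv y.val) = 2 ∨ bil B (vv y.val) (vv y.val) = 4 := by
  unfold Rt; decide +kernel

theorem pair (x y : Rt chevF4) : y = x ∨ y = x.rev ∨
    Q (bil B (C.v x) (C.v x)) (bil B (C.v y) (C.v y)) (bil B (C.v x) (C.v y)) := by
  refine pair_prop C B inv Q (fun i y => ?_) x y
  rw [v_eq, v_eq, p_eq]
  rcases table i y with h | h | h
  · exact Or.inl (Fin.ext (h.trans (p_eq i).symm))
  · exact Or.inr (Or.inl (Fin.ext (by rw [Fin.val_rev, p_eq]; exact h)))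
  · exact Or.inr (Or.inr h)

theorem det_toeplitz (g0 a : ℤ) :
    (!![g0, a, 0, -a; a, g0, a, 0; 0, a, g0, a; -a, 0, a, g0]).det = (g0 ^ 2 - 2 * a ^ 2) ^ 2 := by
  simp [Matrix.det_succ_row_zero, Fin.sum_univ_succ, Fin.succAbove]
  ring

theorem cases4 (j : Fin chevF4.rank) : j = ⟨0, by decide⟩ ∨ j = ⟨1, by decide⟩ ∨ j = ⟨2, by decide⟩ ∨ j = ⟨3, by decide⟩ := by
  revert j; decide

theorem gram_mat (M : Matrix (Fin chevF4.rank) (Fin chevF4.rank) ℤ) (hi : Mᵀ * B * M = B) (hM : M ^ 4 = -1)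
    (u : Fin chevF4.rank → ℤ) :
    (cyc M u)ᵀ * B * cyc M u = !![bil B u u, bil B u (M *ᵥ u), 0, -bil B u (M *ᵥ u);
      bil B u (M *ᵥ u), bil B u u, bil B u (M *ᵥ u), 0; 0, bil B u (M *ᵥ u), bil B u u, bil B u (M *ᵥ u);
      -bil B u (M *ᵥ u), 0, bil B u (M *ᵥ u), bil B u u] := by
  have hneg : ∀ w, bil B ((M ^ 4) *ᵥ u) w = - bil B u w := fun w => by
    simp [hM, bil, Matrix.neg_mulVec]
  have h2 : bil B u ((M ^ 2) *ᵥ u) = 0 := by
    have e1 := (bil_comm B B_symm ((M ^ 4) *ᵥ u) ((M ^ 2) *ᵥ u)).trans (bil_pow B hi u 2 2)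
    rw [hneg] at e1
    omega
  have h3 : bil B u ((M ^ 3) *ᵥ u) = -bil B u (M *ᵥ u) := by
    have e1 := (bil_comm B B_symm ((M ^ 4) *ᵥ u) ((M ^ 1) *ᵥ u)).trans (bil_pow B hi u 1 3)
    rw [hneg, pow_one] at e1
    omega
  ext i j
  rw [gram_entry, bil_pow_dist B B_symm hi]
  rcases cases4 i with rfl | rfl | rfl | rfl <;> rcases cases4 j with rfl | rfl | rfl | rfl <;>
    norm_num [h2, h3, pow_zero, pow_one, Matrix.one_mulVec] <;> rfl

theorem gram_det {σ : Equiv.Perm (Rt chevF4)} (hσ : σ ∈ C.WG) (hM : mat C σ ^ 4 = -1) (x : Rt chevF4) :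
    (cyc (mat C σ) (C.v x)).det ^ 2 * 4 =
      (bil B (C.v x) (C.v x) ^ 2 - 2 * bil B (C.v x) (mat C σ *ᵥ C.v x) ^ 2) ^ 2 := by
  have h := congrArg Matrix.det (gram_mat (mat C σ) (inv σ hσ) hM (C.v x))
  rw [Matrix.det_mul, Matrix.det_mul, Matrix.det_transpose, B_det] at h
  rw [← det_toeplitz]
  refine Eq.trans ?_ h
  ring

theorem exists_short {σ : Equiv.Perm (Rt chevF4)} (hσ : σ ∈ C.WG) (hM : mat C σ ^ 4 = -1) :
    ∃ x, bil B (C.v x) (C.v x) = 2 ∧ bil B (C.v x) (mat C σ *ᵥ C.v x) ≠ 0 := by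
  by_contra hne
  push Not at hne
  set M := mat C σ
  set S := B * M with hS
  have h0 : ∀ n ∈ ([27, 28, 29, 33, 34, 35, 36, 37, 38, 39] : List ℕ), ∀ hn : n < chevF4.nroots,
      bil B (vv n) (vv n) = 2 ∧ (vv n) ⬝ᵥ S *ᵥ (vv n) = 0 := by
    intro n hmem hn
    have hshort : ∀ n ∈ ([27, 28, 29, 33, 34, 35, 36, 37, 38, 39] : List ℕ), bil B (vv n) (vv n) = 2 := by
      decide +kernel
    refine ⟨hshort n hmem, ?_⟩
    have := hne ⟨n, hn⟩ (hshort n hmem)
    rw [bil, Matrix.mulVec_mulVec, v_eq] at this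
    exact this
  have hall : ∀ n ∈ ([27, 28, 29, 33, 34, 35, 36, 37, 38, 39] : List ℕ), n < chevF4.nroots := by decide
  have e : ∀ n, n ∈ ([27, 28, 29, 33, 34, 35, 36, 37, 38, 39] : List ℕ) → (vv n) ⬝ᵥ S *ᵥ (vv n) = 0 :=
    fun n hn => (h0 n hn (hall n hn)).2
  let n0 : Fin chevF4.rank := ⟨0, by decide⟩
  let n1 : Fin chevF4.rank := ⟨1, by decide⟩
  let n2 : Fin chevF4.rank := ⟨2, by decide⟩
  let n3 : Fin chevF4.rank := ⟨3, by decide⟩
  have hv : ([27, 28, 29, 33, 34, 35, 36, 37, 38, 39] : List ℕ).map (fun n => [vv n n0, vv n n1, vv n n2, vv n n3]) =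
      [[0, 1, 0, 0], [0, 1, 1, 0], [0, 1, 1, 1], [1, 0, 0, 0], [1, 1, 0, 0], [1, 1, 1, 0], [1, 1, 1, 1],
        [1, 2, 1, 0], [1, 2, 1, 1], [1, 2, 2, 1]] := by decide +kernel
  simp only [List.map_cons, List.cons.injEq, and_true, List.map_nil] at hv
  obtain ⟨⟨a27, b27, c27, d27⟩, ⟨a28, b28, c28, d28⟩, ⟨a29, b29, c29, d29⟩, ⟨a33, b33, c33, d33⟩,
    ⟨a34, b34, c34, d34⟩, ⟨a35, b35, c35, d35⟩, ⟨a36, b36, c36, d36⟩, ⟨a37, b37, c37, d37⟩,
    ⟨a38, b38, c38, d38⟩, ⟨a39, b39, c39, d39⟩⟩ := hv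
  have sum4 : ∀ f : Fin chevF4.rank → ℤ, ∑ j, f j = f n0 + f n1 + f n2 + f n3 := fun f => Fin.sum_univ_four f
  have exp : ∀ w : Fin chevF4.rank → ℤ, w ⬝ᵥ S *ᵥ w =
      w n0 * w n0 * S n0 n0 + w n1 * w n1 * S n1 n1 + w n2 * w n2 * S n2 n2 + w n3 * w n3 * S n3 n3 +
      w n0 * w n1 * (S n0 n1 + S n1 n0) + w n0 * w n2 * (S n0 n2 + S n2 n0) +
      w n0 * w n3 * (S n0 n3 + S n3 n0) + w n1 * w n2 * (S n1 n2 + S n2 n1) +
      w n1 * w n3 * (S n1 n3 + S n3 n1) + w n2 * w n3 * (S n2 n3 + S n3 n2) := by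
    intro w
    simp only [dotProduct, Matrix.mulVec, sum4]
    ring
  have E27 := e 27 (by simp); have E28 := e 28 (by simp); have E29 := e 29 (by simp); have E33 := e 33 (by simp)
  have E34 := e 34 (by simp); have E35 := e 35 (by simp); have E36 := e 36 (by simp); have E37 := e 37 (by simp)
  have E38 := e 38 (by simp); have E39 := e 39 (by simp)
  rw [exp, a27, b27, c27, d27] at E27; rw [exp, a28, b28, c28, d28] at E28; rw [exp, a29, b29, c29, d29] at E29
  rw [exp, a33, b33, c33, d33] at E33; rw [exp, a34, b34, c34, d34] at E34; rw [exp, a35, b35, c35, d35] at E35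
  rw [exp, a36, b36, c36, d36] at E36; rw [exp, a37, b37, c37, d37] at E37; rw [exp, a38, b38, c38, d38] at E38
  rw [exp, a39, b39, c39, d39] at E39
  norm_num at E27 E28 E29 E33 E34 E35 E36 E37 E38 E39
  have hanti : Sᵀ = -S := by
    ext i j
    show S j i = - S i j
    simp only [n0, n1, n2, n3] at E27 E28 E29 E33 E34 E35 E36 E37 E38 E39
    rcases cases4 i with rfl | rfl | rfl | rfl <;> rcases cases4 j with rfl | rfl | rfl | rfl <;> omega
  have h1 : B * (M * M + 1) = 0 := by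
    have h2 : Mᵀ * B = -(B * M) := by rw [← hS, ← hanti, hS, Matrix.transpose_mul, B_symm]
    have h3 := inv σ hσ
    rw [h2, Matrix.neg_mul, Matrix.mul_assoc] at h3
    rw [Matrix.mul_add, Matrix.mul_one]
    exact eq_neg_iff_add_eq_zero.1 (neg_eq_iff_eq_neg.1 h3)
  have h4 : M * M + 1 = 0 := by
    have h5 := congrArg (fun W => B.adjugate * W) h1
    simp only [← Matrix.mul_assoc, Matrix.adjugate_mul, B_det, Matrix.mul_zero, Matrix.smul_mul, Matrix.one_mul] at h5
    exact (smul_eq_zero.1 h5).resolve_left (by norm_num)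
  have h6 : M * M = -1 := eq_neg_of_add_eq_zero_left h4
  rw [show (4 : ℕ) = 2 + 2 from rfl, pow_add, sq, h6] at hM
  have := congrFun (congrFun hM ⟨0, by decide⟩) ⟨0, by decide⟩
  simp at this

theorem prime_ord {q r : ℕ} (hr : r.Prime) (hr2 : r ≠ 2) (h : r ∣ q ^ 4 + 1) :
    orderOf (q : ZMod r) = 8 ∧ 11 ≤ r := by
  haveI : Fact r.Prime := ⟨hr⟩
  have h1 : (q : ZMod r) ^ 4 = -1 := by
    have := (ZMod.natCast_eq_zero_iff (q ^ 4 + 1) r).2 h
    push_cast at this
    exact eq_neg_of_add_eq_zero_left this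
  have ho : orderOf (q : ZMod r) = 2 ^ (2 + 1) := by
    refine orderOf_eq_prime_pow (fun h2 => ?_) ?_
    · rw [show (2 : ℕ) ^ 2 = 4 from rfl, h1] at h2
      haveI : Fact (2 < r) := ⟨by have := hr.two_le; omega⟩
      exact ZMod.neg_one_ne_one h2
    · rw [show (2 : ℕ) ^ (2 + 1) = 4 * 2 from rfl, pow_mul, h1, neg_one_sq]
  refine ⟨ho, ?_⟩
  have h2 : 8 ∣ r - 1 := by
    rw [show (8 : ℕ) = orderOf (q : ZMod r) from ho.symm]
    refine orderOf_dvd_of_pow_eq_one (ZMod.pow_card_sub_one_eq_one ?_)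
    intro h0
    rw [h0, zero_pow (by norm_num), eq_comm, neg_eq_zero] at h1
    exact one_ne_zero h1
  have := hr.two_le
  have h3 : r ≠ 9 := fun h => by rw [h] at hr; norm_num at hr
  obtain ⟨k, hk⟩ := h2
  omega

theorem exists_prime (q : ℕ) (hq : 2 ≤ q) : ∃ r, r.Prime ∧ r ≠ 2 ∧ r ∣ q ^ 4 + 1 := by
  by_contra h
  push Not at h
  have hpos : q ^ 4 + 1 ≠ 0 := by omega
  have he : q ^ 4 + 1 = 2 ^ (q ^ 4 + 1).primeFactorsList.length := by
    refine Nat.eq_prime_pow_of_unique_prime_dvd hpos fun {r} hr hd => ?_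
    by_contra h2
    exact h r hr h2 hd
  have h16 : 17 ≤ q ^ 4 + 1 := by
    have := Nat.pow_le_pow_left hq 4
    omega
  have h4 : 4 ∣ q ^ 4 + 1 := by
    rw [he] at h16 ⊢
    generalize (q ^ 4 + 1).primeFactorsList.length = k at h16 ⊢
    obtain ⟨k, rfl⟩ : ∃ k', k = k' + 2 := ⟨k - 2, by
      rcases Nat.lt_or_ge k 2 with hk | hk
      · interval_cases k <;> omega
      · omega⟩
    exact ⟨2 ^ k, by ring⟩
  rcases Nat.even_or_odd q with ⟨t, ht⟩ | ⟨t, ht⟩
  · subst ht; ring_nf at h4; omega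
  · subst ht; ring_nf at h4; omega

theorem exists_torus {F : Type*} [Field F] [Fintype F] (q : ℕ) (hF : Fintype.card F = q) :
    ∃ H : Subgroup ↥(chevF4.group F), IsCyclic ↥H ∧ Nat.card ↥H = q ^ 4 + 1 ∧
      Subgroup.centralizer (H : Set ↥(chevF4.group F)) = H := by
  have hq2 : 2 ≤ q := hF ▸ Fintype.one_lt_card
  obtain ⟨r, hr, hr2, hrd⟩ := exists_prime q hq2
  obtain ⟨hord, hr11⟩ := prime_ord hr hr2 hrd
  have hgcd : (∏ i : Fin chevF4.rank, Nat.gcd (1 : ℕ) (Order.DataTorus.dF4.getD i.val 0)) = 1 := by simp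
  have hd1 : ∀ i : Fin chevF4.rank, Order.DataTorus.dF4.getD i.val 0 = 1 := by decide
  have hcG : ∀ (K : Type _) [Field K] [Fintype K], Nat.card (chevF4.group K) =
      Fintype.card K ^ (chevF4.nroots / 2) * (([2, 6, 8, 12] : List ℕ).map fun e => Fintype.card K ^ e - 1).prod := by
    intro K _ _
    have := Order.CertF4.card_group (K := K) rfl
    simp only [hd1, Nat.gcd_one_right, Finset.prod_const_one, one_mul] at this
    exact this
  have hS : Setup C r 8 q (q ^ 4 + 1) [2, 6, 8, 12] :=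
    { comm := Cert.F4.core.commOK_mild mildF4
      prime := hr
      rank_lt := by show 4 + 1 < r; omega
      v_small := fun x k => by
        have h : ∀ (x : Rt chevF4) (k : Fin chevF4.rank), |vv x.val k| ≤ 4 := by unfold Rt; decide +kernel
        rw [v_eq]
        have := h x k
        omega
      ord := hord
      tot := by decide +kernel
      val := by rw [cyclotomic_eight]; simp
      len := rfl
      degs_prime := fun e he => by
        have h12 : e ≤ 12 ∧ 0 < e := by fin_cases he <;> omega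
        refine ⟨fun hd => ?_, h12.2⟩
        have hle := Nat.le_of_dvd h12.2 hd
        rcases (show r = 11 ∨ r = 12 by omega) with rfl | rfl
        · fin_cases he <;> omega
        · exact absurd hr (by norm_num)
      card_group := fun K _ _ => hcG K
      card_diag := fun K _ _ => by
        have := Order.CertF4.card_diagonal (K := K) rfl
        simp only [hd1, Nat.gcd_one_right, Finset.prod_const_one, one_mul] at this
        exact this
      index := by
        intro σ hσ hΦ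
        rw [cyclotomic_eight, map_add, map_pow, Polynomial.aeval_X, map_one] at hΦ
        have hM : mat C σ ^ 4 = -1 := eq_neg_of_add_eq_zero_left hΦ
        have hΦ' : Polynomial.aeval (mat C σ) (Polynomial.cyclotomic 8 ℤ) = 0 := by
          rw [cyclotomic_eight, map_add, map_pow, Polynomial.aeval_X, map_one, hM, neg_add_cancel]
        have val : ∀ x, bil B (C.v x) (mat C σ *ᵥ C.v x) = bil B (C.v x) (C.v (σ x)) := fun x => by
          rw [mat_mulVec C hσ]
        have bnd : ∀ x, Q (bil B (C.v x) (C.v x)) (bil B (C.v x) (C.v x)) (bil B (C.v x) (mat C σ *ᵥ C.v x)) := by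
          intro x
          have hne := pow_apply_ne C hσ (d := 8) (by norm_num) (by decide +kernel) hΦ' x (k := 1) one_pos (by decide)
          rw [pow_one] at hne
          rcases pair x (σ x) with h | h | h
          · exact absurd h hne.1
          · exact absurd h hne.2
          · have hn : bil B (C.v (σ x)) (C.v (σ x)) = bil B (C.v x) (C.v x) := by
              rw [← mat_mulVec C hσ, bil_mulVec B (inv σ hσ)]
            rw [hn, ← val] at h
            exact h
        refine ⟨fun x hd => ?_, ?_⟩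
        · have hG := gram_det hσ hM x
          obtain ⟨hs, hl, hcase⟩ := bnd x rfl
          set I := (cyc (mat C σ) (C.v x)).det
          obtain ⟨k, hk⟩ := hd
          have hne : I ≠ 0 := det_cyclic_ne_zero (d := 8) (by norm_num) (by decide +kernel) hΦ' (C.v_ne_zero x)
          have hk1 : 1 ≤ k ^ 2 := by
            rcases lt_trichotomy k 0 with h | h | h
            · nlinarith
            · subst h; simp at hk; exact absurd hk hne
            · nlinarith
          have hI : I ^ 2 ≤ 64 := by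
            rcases hcase with h0 | h0
            · rcases hs h0 with h | h | h <;> rw [h0, h] at hG <;> nlinarith
            · rcases hl h0 with h | h | h <;> rw [h0, h] at hG <;> nlinarith
          rw [hk] at hI
          have h121 : (121 : ℤ) ≤ (r : ℤ) ^ 2 := by nlinarith [show (11 : ℤ) ≤ r by exact_mod_cast hr11]
          nlinarith [mul_le_mul h121 hk1 zero_le_one (sq_nonneg (r : ℤ))]
        · obtain ⟨x, hx2, hx⟩ := exists_short hσ hM
          refine ⟨x, ?_⟩
          have hG := gram_det hσ hM x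
          have ha := (bnd x rfl).1 hx2
          have hI : (cyc (mat C σ) (C.v x)).det ^ 2 = 1 := by
            rcases ha with h | h | h
            · rw [hx2, h] at hG; linarith
            · exact absurd h hx
            · rw [hx2, h] at hG; linarith
          exact ⟨(cyc (mat C σ) (C.v x)).det, 0, by rw [zero_mul, add_zero, ← sq]; exact hI⟩ }
  refine RegTorus.exists_torus hS hF (hrd.trans ?_)
  have hcF := Order.CertF4.card_group (K := F) hF
  simp only [hd1, Nat.gcd_one_right, Finset.prod_const_one, one_mul] at hcF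
  rw [hcF]
  refine Dvd.dvd.mul_left ?_ _
  refine (Dvd.intro (q ^ 4 - 1) ?_).trans (List.dvd_prod (a := q ^ 8 - 1) (by simp))
  have := Nat.sq_sub_sq (q ^ 4) 1
  rw [← pow_mul, one_pow] at this
  exact this.symm

end Cfsg.Agent.Lib.ChevStructure.RegTorus.F4
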