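import Cfsg.Agent.Lib.ChevStructure.RegTorus.Cyclic
import Cfsg.Agent.Lib.ChevFixed.Field
import Cfsg.Agent.Lib.ChevStructure.Poincare
import Cfsg.Agent.Lib.ChevFixed.Basic

/-!
The action of the Weyl group on the root lattice, stabilisers of regular functionals modulo a prime, and
elements of the group transporting families of torus elements.
-/

set_option autoImplicit false
set_option linter.unusedSectionVars false

namespace Cfsg.Agent.Lib.ChevStructure.RegTorus

open Cfsg.Lie Matrix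
open scoped MatrixGroups

variable {D : ChevalleyDatum} (C : Core D)

/-- The matrix of a permutation of the roots on the simple roots. -/
def mat (σ : Equiv.Perm (Rt D)) : Matrix (Fin D.rank) (Fin D.rank) ℤ := Matrix.of fun m k => C.v (σ (C.p k)) m

theorem mat_mulVec {σ : Equiv.Perm (Rt D)} (hσ : σ ∈ C.WG) (x : Rt D) : mat C σ *ᵥ C.v x = C.v (σ x) := by
  obtain ⟨L, rfl⟩ := C.mem_WG_iff.1 hσ
  funext m
  rw [C.pprod_v L x m]
  show ∑ k, C.v (C.pprod L (C.p k)) m * C.v x k = _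
  exact Finset.sum_congr rfl fun k _ => mul_comm _ _

theorem mat_one : mat C 1 = 1 := by
  ext m k
  simp [mat, C.v_p, Matrix.one_apply, Pi.single_apply]

theorem mat_mul {σ : Equiv.Perm (Rt D)} (hσ : σ ∈ C.WG) (τ : Equiv.Perm (Rt D)) :
    mat C (σ * τ) = mat C σ * mat C τ := by
  ext m k
  exact (congrFun (mat_mulVec C hσ (τ (C.p k))) m).symm

theorem mat_pow {σ : Equiv.Perm (Rt D)} (hσ : σ ∈ C.WG) : ∀ i : ℕ, mat C (σ ^ i) = mat C σ ^ i
  | 0 => by rw [pow_zero, pow_zero, mat_one]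
  | i + 1 => by rw [pow_succ', pow_succ', mat_mul C hσ, mat_pow hσ i]

theorem eq_one_of_mat {σ : Equiv.Perm (Rt D)} (hσ : σ ∈ C.WG) (h : mat C σ = 1) : σ = 1 :=
  Equiv.ext fun x => C.v_inj (by
    show C.v (σ x) = C.v x
    rw [← mat_mulVec C hσ, h, Matrix.one_mulVec])

theorem exists_pow_eq_one {σ : Equiv.Perm (Rt D)} (hσ : σ ∈ C.WG) : ∃ e, 0 < e ∧ mat C σ ^ e = 1 :=
  ⟨orderOf σ, orderOf_pos σ, by rw [← mat_pow C hσ, pow_orderOf_eq_one, mat_one]⟩

/-- A functional evaluated at a root. -/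
def ev {R : Type*} [CommRing R] (f : Fin D.rank → R) (x : Rt D) : R := f ⬝ᵥ fun k => (C.v x k : R)

theorem ev_p {R : Type*} [CommRing R] (f : Fin D.rank → R) (k : Fin D.rank) : ev C f (C.p k) = f k := by
  simp [ev, C.v_p, dotProduct, Pi.single_apply]

theorem ev_rev {R : Type*} [CommRing R] (f : Fin D.rank → R) (x : Rt D) : ev C f x.rev = - ev C f x := by
  simp [ev, C.v_rev, dotProduct, Finset.sum_neg_distrib]

theorem ev_apply {R : Type*} [CommRing R] (f : Fin D.rank → R) {σ : Equiv.Perm (Rt D)} (hσ : σ ∈ C.WG)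
    (x : Rt D) : ev C f (σ x) = ev C (f ᵥ* (mat C σ).map (Int.cast : ℤ → R)) x := by
  rw [ev, ev, ← Matrix.dotProduct_mulVec]
  congr 1
  funext k
  rw [← mat_mulVec C hσ x]
  exact (Int.castRingHom R).map_mulVec _ _ k

theorem ev_ext {R : Type*} [CommRing R] {f g : Fin D.rank → R} (h : ∀ x, ev C f x = ev C g x) : f = g :=
  funext fun k => by have := h (C.p k); rwa [ev_p, ev_p] at this

theorem no_order_prime {r : ℕ} (hr : r.Prime) (hn : D.rank + 1 < r) {σ : Equiv.Perm (Rt D)} (hσ : σ ∈ C.WG) :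
    ¬ r ∣ orderOf σ := by
  intro hdv
  obtain ⟨k, hk⟩ := hdv
  have h1 : mat C (σ ^ k) = 1 := by
    refine eq_one_of_pow_prime hr (by rwa [Fintype.card_fin]) ?_
    rw [← mat_pow C (pow_mem hσ _), ← pow_mul, mul_comm, ← hk, pow_orderOf_eq_one, mat_one]
  have h2 := orderOf_dvd_of_pow_eq_one (eq_one_of_mat C (pow_mem hσ _) h1)
  have hpos := orderOf_pos σ
  rw [hk] at h2 hpos
  have := Nat.le_of_dvd (Nat.pos_of_mul_pos_left hpos) h2
  have := hr.two_le
  have : 2 * k ≤ r * k := Nat.mul_le_mul_right k hr.two_le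
  have := Nat.pos_of_mul_pos_left hpos
  omega

/-- The stabiliser of a regular functional modulo a large prime is trivial. -/
theorem stab {r : ℕ} [Fact r.Prime] (hn : D.rank + 1 < r) {E : Fin D.rank → ZMod r} (hE : ∀ x, ev C E x ≠ 0)
    {σ : Equiv.Perm (Rt D)} (hσ : σ ∈ C.WG) (h : ∀ x, ev C E (σ x) = ev C E x) : σ = 1 := by
  classical
  set e := orderOf σ
  let f0 : Fin D.rank → ℤ := fun k => ((E k).val : ℤ)
  let g : Fin D.rank → ℤ := ∑ i ∈ Finset.range e, f0 ᵥ* mat C (σ ^ i)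
  have hg : ∀ x, ev C g x = ∑ i ∈ Finset.range e, ev C f0 ((σ ^ i) x) := fun x => by
    simp only [ev, g, sum_dotProduct]
    refine Finset.sum_congr rfl fun i _ => ?_
    have := ev_apply C f0 (pow_mem hσ i) x
    simpa [ev, show (Int.cast : ℤ → ℤ) = id from rfl] using this.symm
  have hinv : ∀ x, ev C g (σ x) = ev C g x := fun x => by
    rw [hg, hg]
    have h1 : ∀ i, (σ ^ i) (σ x) = (σ ^ (i + 1)) x := fun i => by rw [pow_succ, Equiv.Perm.mul_apply]
    simp only [h1]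
    have h2 := Finset.sum_range_succ' (fun i => ev C f0 ((σ ^ i) x)) e
    have h3 := Finset.sum_range_succ (fun i => ev C f0 ((σ ^ i) x)) e
    rw [pow_orderOf_eq_one] at h3
    rw [h3, pow_zero] at h2
    exact (add_right_cancel h2).symm
  have hne : ∀ x, ev C g x ≠ 0 := by
    intro x h0
    have h1 : ((ev C g x : ℤ) : ZMod r) = (e : ZMod r) * ev C E x := by
      rw [hg, Int.cast_sum]
      have h2 : ∀ i, ((ev C f0 ((σ ^ i) x) : ℤ) : ZMod r) = ev C E x := by
        intro i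
        have h3 : ∀ i, ev C E ((σ ^ i) x) = ev C E x := fun i => by
          induction i with
          | zero => rw [pow_zero, Equiv.Perm.one_apply]
          | succ i ih => rw [pow_succ', Equiv.Perm.mul_apply, h, ih]
        rw [← h3 i]
        simp [ev, dotProduct, f0]
      simp [h2]
    rw [h0, Int.cast_zero, eq_comm, mul_eq_zero] at h1
    rcases h1 with h1 | h1
    · exact no_order_prime C (Fact.out : r.Prime) hn hσ ((ZMod.natCast_eq_zero_iff _ r).1 h1)
    · exact hE x h1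
  let bad : Equiv.Perm (Rt D) → Finset (Rt D) := fun τ => Finset.univ.filter fun x => x ∈ C.Pos ∧ ev C g (τ x) < 0
  obtain ⟨τ, hτ, hmin⟩ := Finset.exists_min_image (Finset.univ.filter fun τ : Equiv.Perm (Rt D) => τ ∈ C.WG)
    (fun τ => (bad τ).card) ⟨1, by simp⟩
  rw [Finset.mem_filter] at hτ
  have hsimple : ∀ i, 0 < ev C g (τ (C.p i)) := by
    intro i
    rcases lt_trichotomy (ev C g (τ (C.p i))) 0 with hlt | h0 | hgt
    · exfalso
      have hmem : C.sref i ∈ C.WG := Subgroup.subset_closure ⟨i, rfl⟩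
      have hlt' : (bad (τ * C.sref i)).card < (bad τ).card := by
        have hp : C.p i ∈ bad τ := Finset.mem_filter.2 ⟨Finset.mem_univ _, C.p_pos i, hlt⟩
        refine lt_of_le_of_lt ?_ (Finset.card_erase_lt_of_mem hp)
        refine Finset.card_le_card_of_injOn (C.w i) (fun x hx => ?_) (fun a _ b _ hab => by
          rw [← C.w_w i a, hab, C.w_w])
        rw [Finset.mem_coe, Finset.mem_filter] at hx
        obtain ⟨-, hxp, hx⟩ := hx
        rw [Equiv.Perm.mul_apply, C.sref_apply] at hx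
        have hne' : x ≠ C.p i := by
          rintro rfl
          rw [C.w_p, C.WG_rev ⟨τ, hτ.2⟩, ev_rev] at hx
          change - ev C g (τ (C.p i)) < 0 at hx
          omega
        exact Finset.mem_erase.2 ⟨C.w_ne_p hxp, Finset.mem_filter.2 ⟨Finset.mem_univ _, C.w_pos hxp hne', hx⟩⟩
      have := hmin (τ * C.sref i) (Finset.mem_filter.2 ⟨Finset.mem_univ _, mul_mem hτ.2 hmem⟩)
      omega
    · exact absurd h0 (hne _)
    · exact hgt
  have hpos : ∀ x ∈ C.Pos, 0 < ev C g (τ x) := by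
    intro x hx
    rw [ev_apply C g hτ.2]
    have hk : ∀ k, 0 < (g ᵥ* (mat C τ).map (Int.cast : ℤ → ℤ)) k := fun k => by
      have := ev_apply C g hτ.2 (C.p k)
      rw [ev_p] at this
      rw [← this]; exact hsimple k
    obtain ⟨k, hkne⟩ : ∃ k, C.v x k ≠ 0 := Function.ne_iff.1 (C.v_ne_zero x)
    refine Finset.sum_pos' (fun j _ => mul_nonneg (hk j).le (C.v_nonneg hx j)) ⟨k, Finset.mem_univ _, ?_⟩
    exact mul_pos (hk k) (lt_of_le_of_ne (C.v_nonneg hx k) (Ne.symm hkne))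
  have hρ : τ⁻¹ * σ * τ ∈ C.WG := mul_mem (mul_mem (inv_mem hτ.2) hσ) hτ.2
  have hlen : C.len (τ⁻¹ * σ * τ) = 0 := by
    rw [Core.len, Set.ncard_eq_zero]
    refine Set.eq_empty_of_forall_notMem fun x hx => ?_
    obtain ⟨hxp, hxn⟩ := hx
    have h1 := hpos _ (C.rev_pos hxn)
    rw [C.WG_rev ⟨τ, hτ.2⟩, ev_rev] at h1
    change 0 < - ev C g (τ ((τ⁻¹ * σ * τ) x)) at h1
    have h2 := hpos x hxp
    rw [← hinv] at h2
    simp only [Equiv.Perm.mul_apply, Equiv.Perm.inv_def, Equiv.apply_symm_apply] at h1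
    omega
  have := C.eq_one_of_len_zero hρ hlen
  rwa [mul_assoc, inv_mul_eq_one, eq_comm, mul_eq_right] at this

section Group

variable {C} (H : CommOK C) {F : Type*} [Field F]
include H

/-- An element of U fixed by a family of torus elements, no root being trivial on all of them, is trivial. -/
theorem eq_one_of_fixed {ι : Type*} {c : ι → Fin D.rank → Fˣ} (h1 : ∀ r, ∃ i, C.chA (c i) r ≠ 1)
    {u : GL D.Idx F} (hu : u ∈ C.US F C.Pos)
    (hfix : ∀ i, C.HT F (c i) * u * (C.HT F (c i))⁻¹ = u) : u = 1 := by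
  obtain ⟨t, rfl⟩ := H.exists_posWord F hu
  have e : ∀ i, C.HT F (c i) * C.wordX F C.posL t * (C.HT F (c i))⁻¹ =
      C.wordX F C.posL fun r => (C.chA (c i) r : F) * t r := by
    intro i
    rw [← MulAut.conj_apply, Core.wordX, map_list_prod, List.map_map, Core.wordX]
    exact congrArg List.prod (List.map_congr_left fun r _ => C.HT_X_conj F (c i) r (t r))
  have hz : ∀ r ∈ C.posL, t r = 0 := by
    intro r hr
    obtain ⟨i, hi⟩ := h1 r
    have h2 := C.wordX_unique F C.posL_sorted (fun q hq => C.mem_posL.1 hq) ((e i).symm.trans (hfix i)) r hr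
    by_contra h
    exact hi (Units.ext ((mul_eq_right₀ h).1 h2))
  rw [Core.wordX]
  refine List.prod_eq_one fun g hg => ?_
  rw [List.mem_map] at hg
  obtain ⟨r, hr, rfl⟩ := hg
  rw [hz r hr, C.X_zero]

/-- An element transporting one family of torus elements in general position to another is monomial. -/
theorem exists_wprod_of_conj {ι : Type*} {c c' : ι → Fin D.rank → Fˣ} (h1 : ∀ r, ∃ i, C.chA (c i) r ≠ 1)
    (h1' : ∀ r, ∃ i, C.chA (c' i) r ≠ 1) {g : GL D.Idx F} (hg : g ∈ D.group F)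
    (hc : ∀ i, g * C.HT F (c i) = C.HT F (c' i) * g) :
    ∃ e L, g = C.HT F e * C.wprod F L ∧ ∀ i r, C.chA (c' i) (C.pprod L r) = C.chA (c i) r := by
  obtain ⟨v, e, L, u, hv, hu, rfl⟩ := ChevFixed.Basic.exists_normalForm H hg
  have hUv : ∀ (d : Fin D.rank → Fˣ) (S : Set (Rt D)) (x : GL D.Idx F), x ∈ C.US F S →
      C.HT F d * x * (C.HT F d)⁻¹ ∈ C.US F S := fun d S x hx =>
    (Subgroup.mem_normalizer_iff.1 (C.HT_mem_normalizer F d S) x).1 hx
  have key : ∀ i, C.HT F (c i) * u * (C.HT F (c i))⁻¹ = u ∧ C.HT F (c' i) * v * (C.HT F (c' i))⁻¹ = v := by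
    intro i
    obtain ⟨e', he'⟩ := C.wprod_HT F L (c i)⁻¹
    set h := C.HT F (c i) with hh
    set h' := C.HT F (c' i) with hh'
    have hinv : C.HT F (c i)⁻¹ = h⁻¹ := (C.HT_inv F (c i)).symm
    have hfix : (h' * v * h'⁻¹ * (C.HT F (c' i * e) * C.HT F e')) * C.wprod F L * (h * u * h⁻¹) =
        v * C.HT F e * C.wprod F L * u := by
      have hw : C.HT F e' * C.wprod F L = C.wprod F L * h⁻¹ := by rw [← hinv]; exact he'.symm
      calc (h' * v * h'⁻¹ * (C.HT F (c' i * e) * C.HT F e')) * C.wprod F L * (h * u * h⁻¹)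
          = h' * v * h'⁻¹ * C.HT F (c' i * e) * (C.HT F e' * C.wprod F L) * (h * u * h⁻¹) := by group
        _ = h' * v * h'⁻¹ * (h' * C.HT F e) * (C.wprod F L * h⁻¹) * (h * u * h⁻¹) := by rw [hw, hh', C.HT_mul]
        _ = h' * (v * C.HT F e * C.wprod F L * u) * h⁻¹ := by group
        _ = _ := by rw [← hc i, mul_inv_cancel_right]
    obtain ⟨hu', hb⟩ := ChevFixed.Basic.normalForm_unique (C.acts_wprod F L)
      (mul_mem (C.posUS_le_borel (hUv _ _ v hv))
        (mul_mem (C.diagonal_le_borel (C.HT_mem_diagonal _)) (C.diagonal_le_borel (C.HT_mem_diagonal _))))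
      (mul_mem (C.posUS_le_borel hv) (C.diagonal_le_borel (C.HT_mem_diagonal e)))
      (hUv _ _ u hu) hu hfix
    refine ⟨hu', ?_⟩
    have h3 : v⁻¹ * (h' * v * h'⁻¹) = C.HT F e * (C.HT F (c' i * e) * C.HT F e')⁻¹ := by
      rw [eq_mul_inv_iff_mul_eq, mul_assoc, hb, inv_mul_cancel_left]
    have h4 : v⁻¹ * (h' * v * h'⁻¹) = 1 := by
      rw [← Subgroup.mem_bot, ← C.US_inf_diagonal]
      refine Subgroup.mem_inf.2 ⟨mul_mem (inv_mem hv) (hUv _ _ v hv), ?_⟩
      rw [h3]
      exact mul_mem (C.HT_mem_diagonal _) (inv_mem (mul_mem (C.HT_mem_diagonal _) (C.HT_mem_diagonal _)))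
    exact (inv_mul_eq_one.1 h4).symm
  have hu1 : u = 1 := eq_one_of_fixed H h1 (C.US_mono F (fun r hr => hr.1) hu) fun i => (key i).1
  have hv1 : v = 1 := eq_one_of_fixed H h1' hv fun i => (key i).2
  subst hu1 hv1
  simp only [one_mul, mul_one] at hc ⊢
  refine ⟨e, L, rfl, fun i r => ?_⟩
  obtain ⟨ε, hε⟩ := C.acts_HT_wprod F e L r
  set n := C.HT F e * C.wprod F L
  have e1 : n * (C.HT F (c i) * C.X F r 1 * (C.HT F (c i))⁻¹) * n⁻¹ =
      C.HT F (c' i) * (n * C.X F r 1 * n⁻¹) * (C.HT F (c' i))⁻¹ := by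
    calc n * (C.HT F (c i) * C.X F r 1 * (C.HT F (c i))⁻¹) * n⁻¹
        = (n * C.HT F (c i)) * C.X F r 1 * (n * C.HT F (c i))⁻¹ := by group
      _ = (C.HT F (c' i) * n) * C.X F r 1 * (C.HT F (c' i) * n)⁻¹ := by rw [hc i]
      _ = _ := by group
  rw [C.HT_X_conj, hε, hε, C.HT_X_conj, mul_one, mul_one] at e1
  have h5 : C.X F (C.pprod L r) ((ε : F) * (C.chA (c i) r : F) - (C.chA (c' i) (C.pprod L r) : F) * ε) = 1 := by
    rw [sub_eq_add_neg, ← C.X_add, ← C.X_inv, e1, mul_inv_cancel]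
  exact Units.ext (mul_right_cancel₀ ε.ne_zero ((sub_eq_zero.1 (C.X_eq_one h5)).symm.trans (mul_comm _ _)))

end Group

end Cfsg.Agent.Lib.ChevStructure.RegTorus
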