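import Cfsg.Agent.Lib.ChevStructure.RegTorus.Family
import Cfsg.Agent.Lib.ChevStructure.G2Torus.Regular
import Mathlib.FieldTheory.Finite.Extension
import Mathlib.GroupTheory.Sylow
import Mathlib.GroupTheory.SpecificGroups.Cyclic

/-!
An element of large prime order r with d = ord_r(q), φ(d) = rank, has as centraliser in the Chevalley group
over F_q a cyclic group of order Φ_d(q).
-/

set_option autoImplicit false
set_option linter.unusedSectionVars false

namespace Cfsg.Agent.Lib.ChevStructure.RegTorus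

open Cfsg.Lie
open scoped MatrixGroups Matrix

/-- The arithmetic and lattice hypotheses. -/
structure Setup {D : ChevalleyDatum} (C : Core D) (r d q m : ℕ) (degs : List ℕ) : Prop where
  comm : CommOK C
  prime : r.Prime
  rank_lt : D.rank + 1 < r
  v_small : ∀ x k, |C.v x k| < r
  ord : orderOf (q : ZMod r) = d
  tot : d.totient = D.rank
  val : ((Polynomial.cyclotomic d ℤ).eval (q : ℤ)) = (m : ℤ)
  len : degs.length = D.rank
  degs_prime : ∀ e ∈ degs, ¬ r ∣ e ∧ 0 < e
  card_group : ∀ (K : Type) [Field K] [Fintype K],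
    Nat.card (D.group K) = Fintype.card K ^ (D.nroots / 2) * (degs.map fun e => Fintype.card K ^ e - 1).prod
  card_diag : ∀ (K : Type) [Field K] [Fintype K],
    Nat.card (D.diagonalSubgroup K) = (Fintype.card K - 1) ^ D.rank
  index : ∀ σ ∈ C.WG, Polynomial.aeval (mat C σ) (Polynomial.cyclotomic d ℤ) = 0 →
    (∀ x, ¬ (r : ℤ) ∣ (cyc (mat C σ) (C.v x)).det) ∧
      ∃ x, IsCoprime (cyc (mat C σ) (C.v x)).det (m : ℤ)

theorem factorization_prod {r Q : ℕ} [Fact r.Prime] (hQ : 2 ≤ Q) (hr : r ∣ Q - 1) : ∀ L : List ℕ,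
    (∀ e ∈ L, ¬ r ∣ e ∧ 0 < e) → (L.map fun e => Q ^ e - 1).prod ≠ 0 ∧
      (L.map fun e => Q ^ e - 1).prod.factorization r = L.length * (Q - 1).factorization r
  | [], _ => by simp
  | e :: L, h => by
    obtain ⟨ih0, ih⟩ := factorization_prod hQ hr L fun a ha => h a (List.mem_cons_of_mem _ ha)
    obtain ⟨he, he0⟩ := h e List.mem_cons_self
    have h1 : Q ^ e - 1 = (Q - 1) * ∑ i ∈ Finset.range e, Q ^ i := by
      have h2 := geom_sum_mul_of_one_le (show 1 ≤ Q by omega) e
      rw [← h2, mul_comm]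
    have hs : ¬ r ∣ ∑ i ∈ Finset.range e, Q ^ i := by
      rw [← ZMod.natCast_eq_zero_iff]
      have hQ1 : (Q : ZMod r) = 1 := by
        have := (ZMod.natCast_eq_zero_iff (Q - 1) r).2 hr
        rwa [Nat.cast_sub (by omega), Nat.cast_one, sub_eq_zero] at this
      simp [hQ1, ZMod.natCast_eq_zero_iff, he]
    have hs0 : (∑ i ∈ Finset.range e, Q ^ i) ≠ 0 := fun h0 => hs (by rw [h0]; exact dvd_zero r)
    have hne : Q ^ e - 1 ≠ 0 := Nat.sub_ne_zero_of_lt (Nat.one_lt_pow he0.ne' (by omega))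
    refine ⟨by simpa [List.map_cons, List.prod_cons, hne] using ih0, ?_⟩
    rw [List.map_cons, List.prod_cons, Nat.factorization_mul hne ih0, Finsupp.add_apply, ih, h1,
      Nat.factorization_mul (by omega) hs0, Finsupp.add_apply,
      Nat.factorization_eq_zero_of_not_dvd hs, List.length_cons]
    ring

variable {D : ChevalleyDatum} {C : Core D} {r d q m : ℕ} {degs : List ℕ}

theorem chA_of_conj {F : Type*} [Field F] {n : GL D.Idx F} {σ : Equiv.Perm (Rt D)} (hn : C.Acts n σ)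
    {c c' : Fin D.rank → Fˣ} (h : n * C.HT F c = C.HT F c' * n) (x : Rt D) :
    C.chA c' (σ x) = C.chA c x := by
  obtain ⟨ε, hε⟩ := hn x
  have e1 : n * (C.HT F c * C.X F x 1 * (C.HT F c)⁻¹) * n⁻¹ =
      C.HT F c' * (n * C.X F x 1 * n⁻¹) * (C.HT F c')⁻¹ := by
    calc n * (C.HT F c * C.X F x 1 * (C.HT F c)⁻¹) * n⁻¹
        = (n * C.HT F c) * C.X F x 1 * (n * C.HT F c)⁻¹ := by group
      _ = (C.HT F c' * n) * C.X F x 1 * (C.HT F c' * n)⁻¹ := by rw [h]
      _ = _ := by group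
  rw [C.HT_X_conj, hε, hε, C.HT_X_conj, mul_one, mul_one] at e1
  have h5 : C.X F (σ x) ((ε : F) * (C.chA c x : F) - (C.chA c' (σ x) : F) * ε) = 1 := by
    rw [sub_eq_add_neg, ← C.X_add, ← C.X_inv, e1, mul_inv_cancel]
  exact Units.ext (mul_right_cancel₀ ε.ne_zero ((sub_eq_zero.1 (C.X_eq_one h5)).symm.trans (mul_comm _ _)))

theorem HT_ext {F : Type*} [Field F] {c c' : Fin D.rank → Fˣ}
    (h : ∀ k, C.chA c (C.p k) = C.chA c' (C.p k)) : C.HT F c = C.HT F c' := by
  rw [C.HT_eq_T, C.HT_eq_T, funext h]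

theorem HT_facts (S : Setup C r d q m degs) (K : Type) [Field K] [Fintype K] :
    Function.Injective (C.HT K) ∧ ∀ χ : Fin D.rank → Kˣ, ∃ c, ∀ k, C.chA c (C.p k) = χ k := by
  have hinj : Function.Injective (C.HT K) := by
    have h1 : Nat.card (C.HThom K).range = Nat.card (Fin D.rank → Kˣ) := by
      rw [← C.diagonalSubgroup_eq, S.card_diag K, Nat.card_fun, Nat.card_fin, Nat.card_units,
        Nat.card_eq_fintype_card]
    have h2 := ((C.HThom K).rangeRestrict_surjective).bijective_of_nat_card_le h1.ge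
    intro a b h
    exact h2.1 (Subtype.ext h)
  refine ⟨hinj, fun χ => ?_⟩
  have h3 : Function.Surjective fun (c : Fin D.rank → Kˣ) k => C.chA c (C.p k) :=
    Finite.injective_iff_surjective.1 fun a b h => hinj (HT_ext (congrFun h))
  obtain ⟨c, hc⟩ := h3 χ
  exact ⟨c, congrFun hc⟩

theorem zpow_ext {G : Type*} [Group G] {ζ : G} (hζ : orderOf ζ = r) (i j : ℤ) :
    ζ ^ i = ζ ^ j ↔ (i : ZMod r) = (j : ZMod r) := by
  rw [← mul_inv_eq_one, ← _root_.zpow_sub, ← orderOf_dvd_iff_zpow_eq_one, hζ, ← ZMod.intCast_zmod_eq_zero_iff_dvd,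
    Int.cast_sub, sub_eq_zero]

theorem exists_torus {F : Type*} [Field F] [Fintype F] (S : Setup C r d q m degs) (hq : Fintype.card F = q)
    (hr : r ∣ Nat.card (D.group F)) :
    ∃ H : Subgroup ↥(D.group F), IsCyclic ↥H ∧ Nat.card ↥H = m ∧
      Subgroup.centralizer (H : Set ↥(D.group F)) = H := by
  classical
  haveI hrp : Fact r.Prime := ⟨S.prime⟩
  have H := S.comm
  have hd0 : 0 < d := Nat.totient_pos.1 (S.tot ▸ C.rank_pos)
  haveI : NeZero d := ⟨hd0.ne'⟩
  obtain ⟨p, hp⟩ := CharP.exists F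
  haveI : Fact p.Prime := ⟨CharP.char_is_prime F p⟩
  let K := FiniteField.Extension F p d
  haveI : Finite K := Module.finite_of_finite F
  letI : Fintype K := Fintype.ofFinite K
  have hq1 : 1 < q := hq ▸ Fintype.one_lt_card
  set Q := q ^ d with hQ
  have hK : Fintype.card K = Q := by
    rw [← Nat.card_eq_fintype_card, FiniteField.natCard_extension, Nat.card_eq_fintype_card, hq]
  have hQ2 : 2 ≤ Q := Nat.one_lt_pow hd0.ne' hq1
  let f := algebraMap F K
  let σ : K →+* K := (FiniteField.Extension.frob F p d).toAlgHom.toRingHom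
  have hσ : ∀ x : K, σ x = x ^ q := fun x => by
    rw [← hq, ← Nat.card_eq_fintype_card]; exact FiniteField.Extension.frob_apply F p d
  have hσf : ∀ a : F, σ (f a) = f a := fun a => AlgEquiv.commutes _ a
  have hfixed : ∀ x : K, σ x = x → ∃ a : F, f a = x := by
    intro x hx
    by_contra hne
    push Not at hne
    have hdeg : (Polynomial.X ^ q - Polynomial.X : Polynomial K).natDegree = q :=
      FiniteField.X_pow_card_sub_X_natDegree_eq K hq1
    have hP : (Polynomial.X ^ q - Polynomial.X : Polynomial K) ≠ 0 := fun h => by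
      rw [h, Polynomial.natDegree_zero] at hdeg; omega
    have hsub : insert x (Finset.univ.image f) ⊆
        (Polynomial.X ^ q - Polynomial.X : Polynomial K).roots.toFinset := by
      intro y hy
      have hy' : y ^ q = y := by
        rw [← hσ]
        rcases Finset.mem_insert.1 hy with rfl | hy
        · exact hx
        · obtain ⟨a, -, rfl⟩ := Finset.mem_image.1 hy; exact hσf a
      rw [Multiset.mem_toFinset, Polynomial.mem_roots hP]
      simp [hy']
    have h1 := (Finset.card_le_card hsub).trans ((Multiset.toFinset_card_le _).trans (Polynomial.card_roots' _))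
    rw [Finset.card_insert_of_notMem (by simpa [f] using hne),
      Finset.card_image_of_injective _ f.injective, Finset.card_univ, hq, hdeg] at h1
    omega
  have hrQ : r ∣ Q - 1 := by
    rw [← ZMod.natCast_eq_zero_iff, Nat.cast_sub (by omega), Nat.cast_pow, ← S.ord, pow_orderOf_eq_one,
      Nat.cast_one, sub_self]
  obtain ⟨hinj, hsurj⟩ := HT_facts S K
  -- a Sylow subgroup inside the torus
  set G := D.group K with hG
  let T := D.diagonalSubgroup K
  let PT : Sylow r ↥T := default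
  let SS : Subgroup (GL D.Idx K) := (PT : Subgroup ↥T).map T.subtype
  have hSST : SS ≤ T := Subgroup.map_subtype_le _
  have hSSG : SS ≤ G := hSST.trans C.diagonal_le_group
  have hfac : (Nat.card ↥G).factorization r = (Nat.card ↥T).factorization r := by
    rw [hG, S.card_group K, S.card_diag K, hK]
    obtain ⟨h0, h⟩ := factorization_prod hQ2 hrQ degs S.degs_prime
    rw [Nat.factorization_mul (pow_ne_zero _ (by omega)) h0, Finsupp.add_apply, h, S.len,
      Nat.factorization_pow Q, Nat.factorization_pow (Q - 1), Finsupp.smul_apply, Finsupp.smul_apply,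
      Nat.factorization_eq_zero_of_not_dvd (n := Q) (p := r) (fun hd => by
        have := Nat.dvd_sub hd hrQ
        rw [show Q - (Q - 1) = 1 by omega] at this
        exact S.prime.one_lt.ne' (Nat.dvd_one.1 this)), smul_zero, zero_add, smul_eq_mul]
  have hcSS : Nat.card ↥(SS.subgroupOf G) = r ^ (Nat.card ↥G).factorization r := by
    rw [Nat.card_congr (Subgroup.subgroupOfEquivOfLe hSSG).toEquiv, hfac,
      Subgroup.card_map_of_injective T.subtype_injective]
    exact PT.card_eq_multiplicity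
  let P0 : Sylow r ↥G := Sylow.ofCard (SS.subgroupOf G) hcSS
  have hTcomm : ∀ a ∈ T, ∀ b ∈ T, a * b = b * a := by
    intro a ha b hb
    obtain ⟨c, rfl⟩ := C.mem_diagonal_iff.1 ha
    obtain ⟨c', rfl⟩ := C.mem_diagonal_iff.1 hb
    rw [C.HT_mul, C.HT_mul, mul_comm]
  have hmemSS : ∀ c : Fin D.rank → Kˣ, C.HT K c ^ r = 1 → C.HT K c ∈ SS := by
    intro c hc
    let t : ↥T := ⟨C.HT K c, C.HT_mem_diagonal c⟩
    haveI : IsMulCommutative ↥T := ⟨⟨fun a b => Subtype.ext (hTcomm _ a.2 _ b.2)⟩⟩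
    have hpg : IsPGroup r (Subgroup.zpowers t) := by
      intro u
      refine ⟨1, ?_⟩
      obtain ⟨i, hi⟩ := u.2
      apply Subtype.ext
      rw [SubmonoidClass.coe_pow, ← hi, pow_one, OneMemClass.coe_one]
      show (t ^ i) ^ r = 1
      rw [← zpow_natCast, ← zpow_mul, mul_comm, zpow_mul, zpow_natCast, show t ^ r = 1 from Subtype.ext hc, one_zpow]
    obtain ⟨P', hP'⟩ := hpg.exists_le_sylow
    haveI : (PT : Subgroup ↥T).Normal := ⟨fun a ha b => by
      rwa [show b * a * b⁻¹ = a by rw [Subtype.ext (hTcomm _ b.2 _ a.2) (a1 := b * a) (a2 := a * b),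
        mul_inv_cancel_right]]⟩
    haveI := Sylow.unique_of_normal PT inferInstance
    exact ⟨t, Subsingleton.elim P' PT ▸ hP' (Subgroup.mem_zpowers t), rfl⟩
  -- the element and its conjugate in the torus
  obtain ⟨x, hx⟩ := exists_prime_orderOf_dvd_card' r hr
  let mg := Matrix.GeneralLinearGroup.map (n := D.Idx) f
  have hmginj : Function.Injective mg := ChevFixed.map_injective (f := f) f.injective
  let X : ↥G := ⟨mg (x : GL D.Idx F), ChevFixed.map_group_le C f ⟨_, x.2, rfl⟩⟩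
  have hXo : orderOf X = r := by
    rw [← Subgroup.orderOf_coe, ← hx, ← Subgroup.orderOf_coe x]
    exact orderOf_injective mg hmginj _
  have hpg : IsPGroup r (Subgroup.zpowers X) := IsPGroup.of_card (n := 1) (by rw [Nat.card_zpowers, hXo, pow_one])
  obtain ⟨P1, hP1⟩ := hpg.exists_le_sylow
  obtain ⟨g0, hg0⟩ := MulAction.exists_smul_eq ↥G P1 P0
  have hgX : ((g0 : ↥G) * X * g0⁻¹ : ↥G) ∈ (P0 : Subgroup ↥G) := by
    rw [← hg0]
    exact ⟨X, hP1 (Subgroup.mem_zpowers X), rfl⟩
  set g : GL D.Idx K := ((g0 : GL D.Idx K))⁻¹ with hg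
  have hgG : g ∈ G := inv_mem g0.2
  have hhS : g⁻¹ * mg (x : GL D.Idx F) * g ∈ SS := by
    rw [hg, inv_inv]; exact hgX
  obtain ⟨c, hc⟩ := C.mem_diagonal_iff.1 (hSST hhS)
  have hco : orderOf (C.HT K c) = r := by
    rw [← hc, show g⁻¹ * mg (x : GL D.Idx F) * g = MulAut.conj g⁻¹ (mg (x : GL D.Idx F)) by simp,
      MulEquiv.orderOf_eq, orderOf_injective mg hmginj, Subgroup.orderOf_coe, hx]
  let σg := Matrix.GeneralLinearGroup.map (n := D.Idx) σ
  have hσHT : ∀ e : Fin D.rank → Kˣ, σg (C.HT K e) = C.HT K (e ^ q) := fun e => by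
    rw [ChevFixed.map_HT C σ e]
    congr 1
    funext j
    exact Units.ext (hσ _)
  have hσmg : ∀ y : GL D.Idx F, σg (mg y) = mg y := fun y => Units.ext (Matrix.ext fun i j => hσf _)
  set n' := g⁻¹ * σg g with hn'
  have hσG : σg g ∈ G := ChevFixed.map_group_le C σ ⟨g, hgG, rfl⟩
  have hn'G : n' ∈ G := mul_mem (inv_mem hgG) hσG
  have hrel : n' * C.HT K (c ^ q) = C.HT K c * n' := by
    rw [← hσHT, ← hc, map_mul, map_mul, map_inv, hσmg, hn']
    group
  -- normalising the Sylow subgroup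
  let A : ↥G := ⟨C.HT K c, C.HT_mem_group c⟩
  let Z : Subgroup ↥G := Subgroup.centralizer {A}
  have hcSS' : C.HT K c ∈ SS := hc ▸ hhS
  have hP0Z : (P0 : Subgroup ↥G) ≤ Z := by
    intro s hs
    rw [Subgroup.mem_centralizer_singleton_iff]
    exact Subtype.ext (hTcomm _ (hSST hs) _ (hSST hcSS'))
  let P2 : Sylow r ↥G := (⟨n', hn'G⟩ : ↥G) • P0
  have hP2Z : (P2 : Subgroup ↥G) ≤ Z := by
    rintro _ ⟨s, hs, rfl⟩
    rw [Subgroup.mem_centralizer_singleton_iff]
    refine Subtype.ext ?_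
    show n' * (s : GL D.Idx K) * n'⁻¹ * C.HT K c = C.HT K c * (n' * (s : GL D.Idx K) * n'⁻¹)
    have h1 : (s : GL D.Idx K) * C.HT K (c ^ q) = C.HT K (c ^ q) * (s : GL D.Idx K) :=
      hTcomm _ (hSST hs) _ (C.HT_mem_diagonal _)
    have h2 : n'⁻¹ * C.HT K c = C.HT K (c ^ q) * n'⁻¹ := by
      rw [inv_mul_eq_iff_eq_mul, ← mul_assoc, hrel, mul_inv_cancel_right]
    calc n' * (s : GL D.Idx K) * n'⁻¹ * C.HT K c = n' * ((s : GL D.Idx K) * (n'⁻¹ * C.HT K c)) := by group
      _ = n' * (C.HT K (c ^ q) * (s : GL D.Idx K)) * n'⁻¹ := by rw [h2, ← mul_assoc (s : GL D.Idx K), h1]; group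
      _ = (n' * C.HT K (c ^ q)) * (s : GL D.Idx K) * n'⁻¹ := by group
      _ = _ := by rw [hrel]; group
  obtain ⟨z, hz⟩ := MulAction.exists_smul_eq ↥Z (P2.subtype hP2Z) (P0.subtype hP0Z)
  set m0 : GL D.Idx K := ((z : ↥G) : GL D.Idx K) * n' with hm0
  have hm0G : m0 ∈ G := mul_mem (z : ↥G).2 hn'G
  have hzA : ((z : ↥G) : GL D.Idx K) * C.HT K c = C.HT K c * ((z : ↥G) : GL D.Idx K) :=
    congrArg Subtype.val (Subgroup.mem_centralizer_singleton_iff.1 z.2)
  have hm0c : m0 * C.HT K (c ^ q) = C.HT K c * m0 := by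
    rw [hm0, mul_assoc, hrel, ← mul_assoc, hzA, mul_assoc]
  have hnorm : ∀ s ∈ SS, m0 * s * m0⁻¹ ∈ SS := by
    intro s hs
    let s' : ↥G := ⟨s, hSSG hs⟩
    have h1 : (⟨n', hn'G⟩ : ↥G) * s' * (⟨n', hn'G⟩ : ↥G)⁻¹ ∈ (P2 : Subgroup ↥G) :=
      ⟨s', hs, rfl⟩
    have h2 : z * ⟨_, hP2Z h1⟩ * z⁻¹ ∈ ((P0.subtype hP0Z : Sylow r ↥Z) : Subgroup ↥Z) := by
      rw [← hz]
      exact ⟨⟨_, hP2Z h1⟩, h1, rfl⟩
    have h3 : ((z : ↥G) : GL D.Idx K) * (n' * s * n'⁻¹) * ((z : ↥G) : GL D.Idx K)⁻¹ ∈ SS := h2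
    rw [hm0, mul_inv_rev]
    convert h3 using 1
    group
  let ι := {e : Fin D.rank → Kˣ // C.HT K e ∈ SS}
  have hcv : ∀ i : ι, ∃ e : ι, m0 * C.HT K i.1 = C.HT K e.1 * m0 := by
    intro i
    have h1 := hnorm _ i.2
    obtain ⟨e, he⟩ := C.mem_diagonal_iff.1 (hSST h1)
    exact ⟨⟨e, he ▸ h1⟩, by show _ = C.HT K e * m0; rw [← he, inv_mul_cancel_right]⟩
  choose tr htr using hcv
  obtain ⟨ζ, hζ⟩ := exists_prime_orderOf_dvd_card' (G := Kˣ) r (by
    rwa [Nat.card_units, Nat.card_eq_fintype_card, hK])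
  have hζr : ζ ^ r = 1 := hζ ▸ pow_orderOf_eq_one ζ
  have hgen : ∀ x, ∃ i : ι, C.chA i.1 x ≠ 1 := by
    intro x
    obtain ⟨k, hk⟩ : ∃ k, C.v x k ≠ 0 := Function.ne_iff.1 (C.v_ne_zero x)
    obtain ⟨e, he⟩ := hsurj (Pi.mulSingle k ζ)
    have her : C.HT K e ^ r = 1 := by
      rw [show C.HT K e ^ r = C.HT K (e ^ r) from (map_pow (C.HThom K) e r).symm, ← C.HT_one K]
      refine HT_ext fun j => ?_
      have h1 : C.chA (e ^ r) (C.p j) = C.chA e (C.p j) ^ r := by
        simp only [Core.chA, Pi.pow_apply, ← zpow_natCast, ← Finset.prod_zpow, ← zpow_mul, mul_comm]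
      have h2 : C.chA (1 : Fin D.rank → Kˣ) (C.p j) = 1 := by simp [Core.chA]
      rw [h1, h2, he]
      by_cases hjk : j = k
      · subst hjk; rw [Pi.mulSingle_eq_same, hζr]
      · rw [Pi.mulSingle_eq_of_ne hjk, one_pow]
    refine ⟨⟨e, hmemSS e her⟩, ?_⟩
    have h1 : C.chA e x = ζ ^ C.v x k := by
      rw [← C.chr_chA, funext he, C.chr_single]
    intro h
    rw [h1, ← zpow_zero ζ, zpow_ext hζ, Int.cast_zero, ZMod.intCast_zmod_eq_zero_iff_dvd] at h
    exact hk (Int.eq_zero_of_abs_lt_dvd h (S.v_small x k))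
  have htr_inj : Function.Injective tr := fun i j h => by
    have := (htr i).trans ((congrArg (fun e : ι => C.HT K e.1 * m0) h).trans (htr j).symm)
    exact Subtype.ext (hinj (mul_left_cancel this))
  have htr_surj : Function.Surjective tr := Finite.injective_iff_surjective.1 htr_inj
  obtain ⟨e0, L, hm0eq, hπ0⟩ := exists_wprod_of_conj H (c := fun i : ι => i.1) (c' := fun i => (tr i).1) hgen
    (fun x => by
      obtain ⟨i, hi⟩ := hgen x
      obtain ⟨j, rfl⟩ := htr_surj i
      exact ⟨j, hi⟩) hm0G htr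
  set π := C.pprod L with hπdef
  have hπW : π ∈ C.WG := C.pprod_mem_WG L
  -- the exponent functional
  have hzp : ∀ u : Kˣ, u ^ r = 1 → ∃ a : ℤ, ζ ^ a = u := by
    intro u hu
    have h1 : Subgroup.zpowers ζ = (powMonoidHom r : Kˣ →* Kˣ).ker := by
      refine Subgroup.eq_of_le_of_card_ge ?_ ?_
      · rw [Subgroup.zpowers_le, MonoidHom.mem_ker, powMonoidHom_apply, hζr]
      · rw [IsCyclic.card_powMonoidHom_ker, Nat.card_zpowers, hζ]
        exact Nat.gcd_le_right _ S.prime.pos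
    have h2 : u ∈ Subgroup.zpowers ζ := by rw [h1, MonoidHom.mem_ker, powMonoidHom_apply, hu]
    exact h2
  have hchpow : ∀ (e : Fin D.rank → Kˣ) (k : ℕ) (y : Rt D), C.chA (e ^ k) y = C.chA e y ^ k := fun e k y => by
    simp only [Core.chA, Pi.pow_apply, ← zpow_natCast, ← Finset.prod_zpow, ← zpow_mul, mul_comm]
  have hcr : c ^ r = 1 := hinj (by
    rw [C.HT_one, show C.HT K (c ^ r) = C.HT K c ^ r from map_pow (C.HThom K) c r, ← hco, pow_orderOf_eq_one])
  have ha : ∀ k, ∃ a : ℤ, ζ ^ a = C.chA c (C.p k) := fun k => hzp _ (by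
    rw [← hchpow, hcr]; simp [Core.chA])
  choose a ha using ha
  let E : Fin D.rank → ZMod r := fun k => (a k : ZMod r)
  have hev : ∀ y, C.chA c y = ζ ^ ev C a y := by
    intro y
    rw [← C.chr_chA, Core.chr, ev, dotProduct, C.zpow_fsum]
    exact Finset.prod_congr rfl fun k _ => by rw [← ha, ← _root_.zpow_mul, Int.cast_id]
  have hevE : ∀ y, ((ev C a y : ℤ) : ZMod r) = ev C E y := fun y => by simp [ev, dotProduct, E]
  have hπc : ∀ y, C.chA c (π y) = C.chA c y ^ q := by
    intro y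
    have hmem : C.HT K (c ^ q) ∈ SS := by
      rw [show C.HT K (c ^ q) = C.HT K c ^ q from map_pow (C.HThom K) c q]
      exact pow_mem hcSS' q
    have h1 : (tr ⟨c ^ q, hmem⟩).1 = c := hinj (mul_right_cancel ((htr ⟨c ^ q, hmem⟩).symm.trans hm0c))
    have h2 := hπ0 ⟨c ^ q, hmem⟩ y
    simp only [h1] at h2
    rw [← hchpow]
    exact h2
  have hEπ : ∀ y, ev C E (π y) = (q : ZMod r) * ev C E y := by
    intro y
    have h1 := hπc y
    rw [hev, hev, ← zpow_natCast, ← _root_.zpow_mul, zpow_ext hζ, hevE, Int.cast_mul, hevE, Int.cast_natCast] at h1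
    rw [h1, mul_comm]
  have hEM : E ᵥ* (mat C π).map (Int.cast : ℤ → ZMod r) = (q : ZMod r) • E := ev_ext C fun y => by
    rw [← ev_apply C E hπW, hEπ]
    simp [ev, smul_dotProduct]
  have hE0 : E ≠ 0 := by
    intro h0
    have hc1 : C.HT K c = C.HT K 1 := HT_ext fun k => by
      have h1 : C.chA (1 : Fin D.rank → Kˣ) (C.p k) = 1 := by simp [Core.chA]
      rw [h1, ← ha, ← zpow_zero ζ, zpow_ext hζ, Int.cast_zero]
      exact congrFun h0 k
    rw [C.HT_one] at hc1
    rw [hc1, orderOf_one] at hco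
    exact S.prime.one_lt.ne hco
  obtain ⟨e, he0, he⟩ := exists_pow_eq_one C hπW
  have hΦ := aeval_cyclotomic_eq_zero (by rw [Fintype.card_fin]; exact S.rank_lt) he0 he hE0 S.ord
    (by rw [S.tot, Fintype.card_fin]) hEM
  obtain ⟨hdet, α, hα⟩ := S.index π hπW hΦ
  have hreg : ∀ y, ev C E y ≠ 0 := by
    intro y h0
    have h1 := det_smul_eq_zero (F := E) (A := cyc (mat C π) (C.v y)) (funext fun i => by
      rw [vecMul_cyc_eigen (q := (q : ℤ)) (by rw [Int.cast_natCast]; exact hEM) i]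
      show _ * ev C E y = 0
      rw [h0, mul_zero])
    rcases smul_eq_zero.1 h1 with h | h
    · exact hdet y ((ZMod.intCast_zmod_eq_zero_iff_dvd _ r).1 h)
    · exact hE0 h
  have hreg1 : ∀ y, C.chA c y ≠ 1 := fun y h => hreg y (by
    rw [hev, ← zpow_zero ζ, zpow_ext hζ, Int.cast_zero, hevE] at h; exact h)
  have hreg1q : ∀ y, C.chA (c ^ q) y ≠ 1 := fun y h => hreg1 (π y) (by rw [hπc, ← hchpow, h])
  have hstab : ∀ ω ∈ C.WG, (∀ y, C.chA c (ω y) = C.chA c y) → ω = 1 := fun ω hω h =>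
    stab C S.rank_lt hreg hω fun y => by
      have h1 := h y
      rwa [hev, hev, zpow_ext hζ, hevE, hevE] at h1
  obtain ⟨e1, L1, hn'eq, hπ1⟩ := exists_wprod_of_conj H (ι := Unit) (c := fun _ => c ^ q) (c' := fun _ => c)
    (fun y => ⟨(), hreg1q y⟩) (fun y => ⟨(), hreg1 y⟩) hn'G (fun _ => hrel)
  have hππ : C.pprod L1 = π := by
    refine mul_inv_eq_one.1 (hstab _ (mul_mem (C.pprod_mem_WG L1) (inv_mem hπW)) fun y => ?_)
    rw [Equiv.Perm.mul_apply, hπ1 (), hchpow, ← hπc, Equiv.Perm.inv_def, Equiv.apply_symm_apply]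
  have hacts : C.Acts n' π := by rw [hn'eq, ← hππ]; exact C.acts_HT_wprod K e1 L1
  -- the centraliser
  let Hc : Subgroup ↥(D.group F) := Subgroup.centralizer {x}
  have hcent : ∀ y : ↥Hc, ∃ e, g⁻¹ * mg ((y : ↥(D.group F)) : GL D.Idx F) * g = C.HT K e ∧
      ∀ y', C.chA e (π y') = C.chA e y' ^ q := by
    intro y
    have hYG : g⁻¹ * mg ((y : ↥(D.group F)) : GL D.Idx F) * g ∈ G :=
      mul_mem (mul_mem (inv_mem hgG) (ChevFixed.map_group_le C f ⟨_, y.1.2, rfl⟩)) hgG
    have hcm : Commute (g⁻¹ * mg ((y : ↥(D.group F)) : GL D.Idx F) * g) (C.HT K c) := by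
      rw [← hc]
      have h1 : mg ((y : ↥(D.group F)) : GL D.Idx F) * mg (x : GL D.Idx F) =
          mg (x : GL D.Idx F) * mg ((y : ↥(D.group F)) : GL D.Idx F) := by
        rw [← map_mul, ← map_mul]
        exact congrArg mg (congrArg Subtype.val (Subgroup.mem_centralizer_singleton_iff.1 y.2))
      show _ = _
      calc (g⁻¹ * mg _ * g) * (g⁻¹ * mg (x : GL D.Idx F) * g)
          = g⁻¹ * (mg ((y : ↥(D.group F)) : GL D.Idx F) * mg (x : GL D.Idx F)) * g := by group
        _ = g⁻¹ * (mg (x : GL D.Idx F) * mg ((y : ↥(D.group F)) : GL D.Idx F)) * g := by rw [h1]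
        _ = _ := by group
    obtain ⟨e, he⟩ := G2Torus.Regular.exists_HT_of_commute_stab H hreg1 hstab hYG hcm
    refine ⟨e, he, fun y' => ?_⟩
    have h1 := congrArg σg he
    rw [hσHT, map_mul, map_mul, map_inv, hσmg] at h1
    have h2 : n' * C.HT K (e ^ q) = C.HT K e * n' := by
      rw [← h1, ← he, hn']; group
    rw [← hchpow]
    exact chA_of_conj hacts h2 y'
  choose et het hetπ using hcent
  have het_mul : ∀ y y', et (y * y') = et y * et y' := fun y y' => hinj (by
    rw [← het, ← C.HT_mul, ← het, ← het, Subgroup.coe_mul, Subgroup.coe_mul, map_mul]; group)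
  -- coordinates in ZMod
  set N := Nat.card Kˣ with hN
  let ι' : Kˣ ≃* Multiplicative (ZMod N) := (zmodCyclicMulEquiv (G := Kˣ) inferInstance).symm
  let cd : (Fin D.rank → Kˣ) → Fin D.rank → ZMod N := fun e k => Multiplicative.toAdd (ι' (C.chA e (C.p k)))
  have hcd : ∀ e y, Multiplicative.toAdd (ι' (C.chA e y)) = ev C (cd e) y := by
    intro e y
    rw [← C.chr_chA, Core.chr, map_prod, toAdd_prod, ev, dotProduct]
    refine Finset.sum_congr rfl fun k _ => ?_
    rw [map_zpow, toAdd_zpow, zsmul_eq_mul, mul_comm]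
  have hcdM : ∀ e : Fin D.rank → Kˣ, (∀ y, C.chA e (π y) = C.chA e y ^ q) →
      cd e ᵥ* (mat C π).map (Int.cast : ℤ → ZMod N) = ((q : ℤ) : ZMod N) • cd e := fun e h => ev_ext C fun y => by
    rw [← ev_apply C _ hπW, ← hcd, h, map_pow, toAdd_pow, hcd]
    simp [ev, smul_dotProduct, nsmul_eq_mul]
  let Ψ : ↥Hc →* Multiplicative (ZMod N) :=
    { toFun := fun y => ι' (C.chA (et y) α)
      map_one' := by
        have : et 1 = 1 := hinj (by rw [← het, C.HT_one]; simp)
        rw [this, show C.chA (1 : Fin D.rank → Kˣ) α = 1 by simp [Core.chA], map_one]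
      map_mul' := fun y y' => by
        rw [het_mul, ← map_mul]
        congr 1
        simp [Core.chA, mul_zpow, Finset.prod_mul_distrib] }
  have hphm : ∀ e : Fin D.rank → Kˣ, (∀ y, C.chA e (π y) = C.chA e y ^ q) →
      ((m : ℤ) : ZMod N) * ev C (cd e) α = 0 := fun e h => by
    have h1 := vecMul_aeval (hcdM e h) (Polynomial.cyclotomic d ℤ)
    rw [hΦ, Matrix.map_zero _ Int.cast_zero, Matrix.vecMul_zero, Polynomial.aeval_def, algebraMap_int_eq,
      ← eq_intCast (Int.castRingHom (ZMod N)) (q : ℤ), Polynomial.eval₂_at_apply, eq_intCast, S.val] at h1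
    rw [ev, ← smul_eq_mul, ← smul_dotProduct, ← h1, zero_dotProduct]
  have hΨinj : Function.Injective Ψ := by
    refine (injective_iff_map_eq_one Ψ).2 fun y hy => ?_
    have h0 : cd (et y) = 0 := eigen_eq_zero (y := C.v α) hΦ (by rw [S.val]; exact hα) (hcdM _ (hetπ y)) (by
      show ev C (cd (et y)) α = 0
      rw [← hcd]
      exact congrArg Multiplicative.toAdd hy)
    have h1 : et y = 1 := hinj (by
      refine HT_ext fun k => ι'.injective ?_
      rw [show C.chA (1 : Fin D.rank → Kˣ) (C.p k) = 1 by simp [Core.chA], map_one]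
      exact toAdd_eq_zero.1 (congrFun h0 k))
    have h2 := het y
    rw [h1, C.HT_one, mul_assoc, inv_mul_eq_one, eq_comm, mul_eq_right] at h2
    exact Subtype.ext (Subtype.ext (hmginj (h2.trans (map_one _).symm)))
  have hNm : m ∣ N := by
    rw [hN, Nat.card_units, Nat.card_eq_fintype_card, hK, ← Int.natCast_dvd_natCast, ← S.val,
      Nat.cast_sub (by omega), Nat.cast_pow, Nat.cast_one]
    have h1 : Polynomial.cyclotomic d ℤ ∣ Polynomial.X ^ d - 1 := Polynomial.cyclotomic.dvd_X_pow_sub_one d ℤ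
    have h2 := Polynomial.eval_dvd (x := (q : ℤ)) h1
    simpa using h2
  have hrange : Ψ.range = (powMonoidHom m : Multiplicative (ZMod N) →* Multiplicative (ZMod N)).ker := by
    refine le_antisymm ?_ fun u hu => ?_
    · rintro _ ⟨y, rfl⟩
      rw [MonoidHom.mem_ker, powMonoidHom_apply, ← toAdd_eq_zero, toAdd_pow, nsmul_eq_mul]
      show (m : ZMod N) * Multiplicative.toAdd (ι' _) = 0
      rw [hcd, ← Int.cast_natCast]
      exact hphm _ (hetπ y)
    · rw [MonoidHom.mem_ker, powMonoidHom_apply, ← toAdd_eq_zero, toAdd_pow, nsmul_eq_mul] at hu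
      obtain ⟨Fv, hFM, hFu⟩ := eigen_exists (y := C.v α) (q := (q : ℤ)) C.rank_pos S.tot hΦ
        (by rw [S.val]; exact hα) (u := Multiplicative.toAdd u) (by rw [S.val, Int.cast_natCast]; exact hu)
      obtain ⟨e, he⟩ := hsurj fun k => ι'.symm (Multiplicative.ofAdd (Fv k))
      have hcde : cd e = Fv := funext fun k => by
        show Multiplicative.toAdd (ι' _) = _
        rw [he, MulEquiv.apply_symm_apply, toAdd_ofAdd]
      have hrel' : ∀ y, C.chA e (π y) = C.chA e y ^ q := fun y => by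
        refine ι'.injective (Multiplicative.toAdd.injective ?_)
        rw [map_pow, toAdd_pow, hcd, hcd, hcde, ev_apply C _ hπW, hFM]
        simp [ev, smul_dotProduct, nsmul_eq_mul]
      have hn : n' * C.HT K (e ^ q) = C.HT K e * n' := by
        obtain ⟨e2, he2⟩ := C.wprod_HT K L1 (e ^ q)
        have h1 : n' * C.HT K (e ^ q) = C.HT K e2 * n' := by
          rw [hn'eq, mul_assoc, he2, ← mul_assoc, C.HT_mul, ← mul_assoc, C.HT_mul, mul_comm e1]
        have h2 : C.HT K e2 = C.HT K e := HT_ext fun k => by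
          have h3 := chA_of_conj hacts h1 (π⁻¹ (C.p k))
          rw [hchpow, ← hrel', Equiv.Perm.inv_def, Equiv.apply_symm_apply] at h3
          exact h3
        rw [h1, h2]
      have hY : g * C.HT K e * g⁻¹ ∈ (D.group F).map mg := by
        refine ChevFixed.mem_map_of_fixed (C := C) H f σ hfixed (fun _ _ h => hinj h)
          (mul_mem (mul_mem hgG (C.HT_mem_group e)) (inv_mem hgG)) ?_
        show σg _ = _
        rw [map_mul, map_mul, map_inv σg g, hσHT, show σg g = g * n' by rw [hn']; group,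
          mul_assoc g, hn]
        group
      obtain ⟨y0, hy0, hy0e⟩ := hY
      have hy0c : (⟨y0, hy0⟩ : ↥(D.group F)) ∈ Hc := by
        rw [Subgroup.mem_centralizer_singleton_iff]
        refine Subtype.ext (hmginj ?_)
        show mg (y0 * (x : GL D.Idx F)) = mg ((x : GL D.Idx F) * y0)
        rw [map_mul, map_mul, hy0e, show mg (x : GL D.Idx F) = g * C.HT K c * g⁻¹ by rw [← hc]; group]
        have h9 : C.HT K e * C.HT K c = C.HT K c * C.HT K e := by rw [C.HT_mul, C.HT_mul, mul_comm]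
        calc g * C.HT K e * g⁻¹ * (g * C.HT K c * g⁻¹) = g * (C.HT K e * C.HT K c) * g⁻¹ := by group
          _ = g * (C.HT K c * C.HT K e) * g⁻¹ := by rw [h9]
          _ = _ := by group
      refine ⟨⟨_, hy0c⟩, ?_⟩
      have h4 : et ⟨_, hy0c⟩ = e := hinj (by
        rw [← het]
        show g⁻¹ * mg y0 * g = _
        rw [hy0e]; group)
      show ι' (C.chA (et _) α) = u
      rw [h4]
      refine Multiplicative.toAdd.injective ?_
      rw [hcd, hcde]
      exact hFu
  haveI : IsCyclic ↥Hc := isCyclic_of_injective Ψ hΨinj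
  refine ⟨Hc, inferInstance, ?_, ?_⟩
  · rw [Nat.card_congr (MonoidHom.ofInjective hΨinj).toEquiv, hrange, IsCyclic.card_powMonoidHom_ker,
      Nat.card_congr Multiplicative.toAdd, Nat.card_zmod, Nat.gcd_eq_right hNm]
  · refine le_antisymm (fun y hy => ?_) fun y hy => ?_
    · rw [Subgroup.mem_centralizer_singleton_iff]
      exact (Subgroup.mem_centralizer_iff.1 hy x (Subgroup.mem_centralizer_singleton_iff.2 rfl)).symm
    · rw [Subgroup.mem_centralizer_iff]
      intro y' hy'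
      letI := IsCyclic.commGroup (α := ↥Hc)
      exact congrArg Subtype.val (mul_comm (⟨y', hy'⟩ : ↥Hc) ⟨y, hy⟩)

end Cfsg.Agent.Lib.ChevStructure.RegTorus
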